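import Cfsg.Agent.Lib.Core.Cores
import Cfsg.Agent.Lib.Signalizer.Involutions
import Cfsg.Agent.Lib.Transfer.Conj
import Cfsg.Agent.Lib.OddLocal.Final.OddOrder

/-!
Owner: helper29. Fusion with respect to an abelian subgroup of exponent two that is the only
subgroup of its kind in a Sylow 2-subgroup.
-/

set_option autoImplicit false

namespace CfsgLib.Recog.AltEightThree

open Subgroup Cfsg

universe u

variable {G : Type u} [Group G]

/-- The odd core of a subgroup, inside the ambient group. -/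
noncomputable def core (X : Subgroup G) : Subgroup G := (oddCore X).map X.subtype

theorem core_le (X : Subgroup G) : core X ≤ X := map_subtype_le _

theorem odd_core [Finite G] (X : Subgroup G) : Odd (Nat.card (core X)) := by
  rw [core, card_map_of_injective X.subtype_injective]
  exact Nat.coprime_two_right.1 (CfsgLib.Core.coprime_card_pPrimeCore 2 X)

theorem le_normalizer_core (X : Subgroup G) : X ≤ normalizer (core X : Set G) := by
  intro g hg
  refine mem_normalizer_iff.2 fun x => ⟨?_, fun hx => ?_⟩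
  · rintro ⟨y, hy, rfl⟩
    exact ⟨⟨g, hg⟩ * y * ⟨g, hg⟩⁻¹, Subgroup.Normal.conj_mem inferInstance y hy _, rfl⟩
  · obtain ⟨y, hy, e⟩ := hx
    refine ⟨⟨g, hg⟩⁻¹ * y * (⟨g, hg⟩⁻¹)⁻¹, Subgroup.Normal.conj_mem inferInstance y hy _, ?_⟩
    show g⁻¹ * (y : G) * g⁻¹⁻¹ = x
    rw [show (y : G) = g * x * g⁻¹ from e]; group

theorem le_core [Finite G] {X K : Subgroup G} (hK : K ≤ X) (hn : X ≤ normalizer (K : Set G))
    (hodd : Odd (Nat.card K)) : K ≤ core X := by
  have : (K.subgroupOf X).Normal := ⟨fun k hk g => (mem_normalizer_iff.1 (hn g.2) k).1 hk⟩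
  have h : K.subgroupOf X ≤ oddCore X := CfsgLib.Core.le_pPrimeCore
    (Nat.coprime_two_right.2 (by rwa [Nat.card_congr (subgroupOfEquivOfLe hK).toEquiv]))
  exact fun k hk => ⟨⟨k, hK hk⟩, h hk, rfl⟩

theorem odd_orderOf_core [Finite G] {X : Subgroup G} {x : G} (hx : x ∈ core X) : Odd (orderOf x) :=
  (odd_core X).of_dvd_nat (orderOf_dvd_natCard _ hx)

/-- An element of odd order of a 2-group is trivial. -/
theorem eq_one_of_odd {T : Subgroup G} (hT : IsPGroup 2 T) {x : G} (hx : x ∈ T)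
    (ho : Odd (orderOf x)) : x = 1 := by
  obtain ⟨k, hk⟩ := IsPGroup.iff_orderOf.1 hT ⟨x, hx⟩
  rw [Subgroup.orderOf_mk] at hk
  rcases k with _ | k
  · exact orderOf_eq_one_iff.1 (by rw [hk, pow_zero])
  · rw [hk, pow_succ] at ho
    exact absurd ho (Nat.not_odd_iff_even.2 ⟨2 ^ k, by ring⟩)

/-- `X` is covered by its core and its intersection with `N`. -/
def Cov (N X : Subgroup G) : Prop := ∀ x ∈ X, ∃ o ∈ core X, ∃ n ∈ N, n ∈ X ∧ x = o * n

theorem Cov.le {N X M : Subgroup G} (h : Cov N X) (h1 : core X ≤ M) (h2 : X ⊓ N ≤ M) : X ≤ M := by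
  intro x hx
  obtain ⟨o, ho, n, hn, hnX, rfl⟩ := h x hx
  exact mul_mem (h1 ho) (h2 ⟨hnX, hn⟩)

theorem core_map_conj [Finite G] (g : G) (X : Subgroup G) :
    (core X).map (MulAut.conj g).toMonoidHom ≤ core (X.map (MulAut.conj g).toMonoidHom) := by
  refine le_core (map_mono (core_le X)) ?_ ?_
  · rw [CfsgLib.Transfer.normalizer_map_conj]
    exact map_mono (le_normalizer_core X)
  · rw [CfsgLib.Transfer.card_map_conj]
    exact odd_core X

theorem Cov.map_conj [Finite G] {N X : Subgroup G} (h : Cov N X) {g : G}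
    (hg : g ∈ N) : Cov N (X.map (MulAut.conj g).toMonoidHom) := by
  rintro _ ⟨x, hx, rfl⟩
  obtain ⟨o, ho, n, hn, hnX, rfl⟩ := h x hx
  refine ⟨g * o * g⁻¹, core_map_conj g X ⟨o, ho, rfl⟩, g * n * g⁻¹,
    mul_mem (mul_mem hg hn) (inv_mem hg), ⟨n, hnX, rfl⟩, ?_⟩
  show g * (o * n) * g⁻¹ = _
  group

/-- A second factor of odd order can be absorbed into the core. -/
theorem Cov.of_two [Finite G] {N X K : Subgroup G} (hK : K ≤ X) (hodd : Odd (Nat.card K))
    (hNK : X ⊓ N ≤ normalizer (K : Set G))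
    (h : ∀ x ∈ X, ∃ o ∈ core X, ∃ k ∈ K, ∃ n ∈ N, n ∈ X ∧ x = o * k * n) : Cov N X := by
  set D := K ⊔ core X with hD
  have hDX : D ≤ X := sup_le hK (core_le X)
  have hDn : X ≤ normalizer (D : Set G) := by
    have hD1 : D ≤ normalizer (D : Set G) := le_normalizer
    intro x hx
    obtain ⟨o, ho, k, hk, n, hn, hnX, rfl⟩ := h x hx
    refine mul_mem (mul_mem (hD1 (mem_sup_right ho)) (hD1 (mem_sup_left hk))) ?_
    refine CfsgLib.Transfer.map_conj_eq_self_iff.1 ?_
    rw [hD, Subgroup.map_sup, CfsgLib.Transfer.map_conj_eq_self_iff.2 (hNK ⟨hnX, hn⟩),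
      CfsgLib.Transfer.map_conj_eq_self_iff.2 (le_normalizer_core X hnX)]
  have hDodd : Odd (Nat.card D) := Nat.coprime_two_right.1
    (CfsgLib.Core.coprime_card_sup (hK.trans (le_normalizer_core X))
      (Nat.coprime_two_right.2 hodd) (Nat.coprime_two_right.2 (odd_core X)))
  intro x hx
  obtain ⟨o, ho, k, hk, n, hn, hnX, rfl⟩ := h x hx
  exact ⟨o * k, mul_mem ho (le_core hDX hDn hDodd (mem_sup_left hk)), n, hn, hnX, rfl⟩

/-- An abelian subgroup of exponent two which is the only one of its order and exponent in a Sylow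
2-subgroup. -/
structure Ctx (G : Type u) [Group G] where
  A : Subgroup G
  S : Sylow 2 G
  hAS : A ≤ (S : Subgroup G)
  sq : ∀ a ∈ A, a * a = 1
  uniq : ∀ B : Subgroup G, B ≤ (S : Subgroup G) → (∀ b ∈ B, b * b = 1) →
    Nat.card B = Nat.card A → B = A

namespace Ctx

variable (C : Ctx G)

/-- The normaliser of `A`. -/
abbrev N : Subgroup G := normalizer (C.A : Set G)

theorem inv_eq {a : G} (ha : a ∈ C.A) : a⁻¹ = a := inv_eq_of_mul_eq_one_right (C.sq a ha)

theorem comm {a b : G} (ha : a ∈ C.A) (hb : b ∈ C.A) : a * b = b * a := by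
  have h := C.inv_eq (mul_mem ha hb)
  rw [mul_inv_rev, C.inv_eq ha, C.inv_eq hb] at h
  exact h.symm

theorem le_centralizer {a : G} (ha : a ∈ C.A) : C.A ≤ centralizer ({a} : Set G) := fun _ hb =>
  mem_centralizer_singleton_iff.2 (C.comm hb ha)

theorem le_centralizer' {W : Subgroup G} (hW : W ≤ C.A) : C.A ≤ centralizer (W : Set G) :=
  fun _ hb => mem_centralizer_iff.2 fun _ hw => C.comm (hW hw) hb

theorem isPGroup : IsPGroup 2 C.A := C.S.2.to_le C.hAS

variable [Finite G]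

theorem eq_of_common {T : Subgroup G} (hT : IsPGroup 2 T) (hA : C.A ≤ T) {g : G}
    (hg : ∀ a ∈ C.A, g * a * g⁻¹ ∈ T) : g ∈ C.N := by
  have : Fact (Nat.Prime 2) := ⟨Nat.prime_two⟩
  obtain ⟨P, hP⟩ := hT.exists_le_sylow
  obtain ⟨h, rfl⟩ := MulAction.exists_smul_eq G C.S P
  have key : ∀ k : G, (∀ a ∈ C.A, k * a * k⁻¹ ∈ T) →
      C.A.map (MulAut.conj (h⁻¹ * k)).toMonoidHom = C.A := by
    intro k hk
    refine C.uniq _ ?_ ?_ (CfsgLib.Transfer.card_map_conj _ _)
    · rintro _ ⟨a, ha, rfl⟩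
      have := hP (hk a ha)
      rw [Sylow.coe_subgroup_smul] at this
      obtain ⟨s, hs, e⟩ := this
      show h⁻¹ * k * a * (h⁻¹ * k)⁻¹ ∈ _
      have e' : h * s * h⁻¹ = k * a * k⁻¹ := e
      rw [show h⁻¹ * k * a * (h⁻¹ * k)⁻¹ = h⁻¹ * (k * a * k⁻¹) * h by group, ← e',
        show h⁻¹ * (h * s * h⁻¹) * h = s by group]
      exact hs
    · rintro _ ⟨a, ha, rfl⟩
      rw [← map_mul, C.sq a ha, map_one]
  have h1 : h⁻¹ * g ∈ C.N := CfsgLib.Transfer.map_conj_eq_self_iff.1 (key g hg)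
  have h2 : h⁻¹ * 1 ∈ C.N :=
    CfsgLib.Transfer.map_conj_eq_self_iff.1 (key 1 fun a ha => by simpa using hA ha)
  rw [mul_one] at h2
  simpa using mul_mem (inv_mem h2) h1

/-- Sylow's theorem with uniqueness of `A`. -/
theorem exists_mul_normalizer {X : Subgroup G} (hA : C.A ≤ X) {x : G}
    (hx : ∀ a ∈ C.A, x * a * x⁻¹ ∈ X) : ∃ c ∈ X, c * x ∈ C.N := by
  have : Fact (Nat.Prime 2) := ⟨Nat.prime_two⟩
  obtain ⟨T, hAT, hTX, hT, hTi⟩ := CfsgLib.Transfer.exists_sylow_of_le hA C.isPGroup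
  obtain ⟨n, hn, hnT⟩ := CfsgLib.Transfer.exists_conj_le (S := C.A.map (MulAut.conj x).toMonoidHom)
    hT hTi (by rintro _ ⟨a, ha, rfl⟩; exact hx a ha) (C.isPGroup.map _)
  refine ⟨n⁻¹, inv_mem hn, C.eq_of_common hT hAT fun a ha => ?_⟩
  rw [show n⁻¹ * x * a * (n⁻¹ * x)⁻¹ = n⁻¹ * (x * a * x⁻¹) * n by group]
  exact hnT _ ⟨a, ha, rfl⟩

/-- `N` controls fusion of elements of `A` in subgroups containing `A`. -/
theorem fus {X : Subgroup G} (hA : C.A ≤ X) {a x : G} (ha : a ∈ C.A) (hx : x ∈ X)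
    (hxa : x * a * x⁻¹ ∈ C.A) : ∃ n ∈ C.N, n ∈ X ∧ n * a * n⁻¹ = x * a * x⁻¹ := by
  obtain ⟨c, ⟨hcX, hcc⟩, hcx⟩ := C.exists_mul_normalizer
    (X := X ⊓ centralizer ({x * a * x⁻¹} : Set G)) (le_inf hA (C.le_centralizer hxa)) (x := x)
    fun b hb => ⟨X.mul_mem (X.mul_mem hx (hA hb)) (X.inv_mem hx), mem_centralizer_singleton_iff.2 (by
      rw [show x * b * x⁻¹ * (x * a * x⁻¹) = x * (b * a) * x⁻¹ by group,
        show x * a * x⁻¹ * (x * b * x⁻¹) = x * (a * b) * x⁻¹ by group, C.comm hb ha])⟩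
  refine ⟨c * x, hcx, mul_mem hcX hx, ?_⟩
  rw [show c * x * a * (c * x)⁻¹ = c * (x * a * x⁻¹) * c⁻¹ by group,
    mem_centralizer_singleton_iff.1 hcc, mul_inv_cancel_right]

/-- The normaliser of a subgroup of `A` is its centraliser times a part of `N`. -/
theorem exists_centralizer_mul {W : Subgroup G} (hW : W ≤ C.A) {x : G}
    (hx : x ∈ normalizer (W : Set G)) : ∃ c ∈ centralizer (W : Set G), c * x ∈ C.N :=
  C.exists_mul_normalizer (C.le_centralizer' hW) fun a ha => mem_centralizer_iff.2 fun w hw => by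
    have hw' : x⁻¹ * w * x ∈ C.A := hW ((mem_normalizer_iff''.1 hx w).1 hw)
    calc w * (x * a * x⁻¹) = x * ((x⁻¹ * w * x) * a) * x⁻¹ := by group
      _ = x * (a * (x⁻¹ * w * x)) * x⁻¹ := by rw [C.comm hw' ha]
      _ = x * a * x⁻¹ * w := by group

/-- Covering passes to centralisers of larger subgroups of `A`. -/
theorem cov_mono {W W' : Subgroup G} (h : W ≤ W') (hW' : W' ≤ C.A)
    (hc : Cov C.N (centralizer (W : Set G))) : Cov C.N (centralizer (W' : Set G)) := by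
  intro x hx
  obtain ⟨o, ho, n, hn, hnX, rfl⟩ := hc x (centralizer_le h hx)
  have hon : ∀ a ∈ W', n * a * n⁻¹ = a ∧ o * a * o⁻¹ = a := by
    intro a ha
    have hb : n * a * n⁻¹ ∈ C.A := (mem_normalizer_iff.1 hn a).1 (hW' ha)
    have he : o * (n * a * n⁻¹) * o⁻¹ = a := by
      rw [show o * (n * a * n⁻¹) * o⁻¹ = o * n * a * (o * n)⁻¹ by group,
        ← mem_centralizer_iff.1 hx a ha, mul_inv_cancel_right]
    have hAn := le_normalizer_core (centralizer (W : Set G))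
      (C.le_centralizer' (h.trans hW') hb)
    have h1 : a * (n * a * n⁻¹)⁻¹ ∈ core (centralizer (W : Set G)) := by
      nth_rw 1 [← he]
      rw [show o * (n * a * n⁻¹) * o⁻¹ * (n * a * n⁻¹)⁻¹ =
        o * ((n * a * n⁻¹) * o⁻¹ * (n * a * n⁻¹)⁻¹) by group]
      exact mul_mem ho ((mem_normalizer_iff.1 hAn _).1 (inv_mem ho))
    have h2 := eq_one_of_odd C.isPGroup (mul_mem (hW' ha) (inv_mem hb)) (odd_orderOf_core h1)
    rw [mul_inv_eq_one] at h2
    refine ⟨h2.symm, ?_⟩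
    rw [← h2] at he
    exact he
  have hnX' : n ∈ centralizer (W' : Set G) := mem_centralizer_iff.2 fun a ha =>
    (mul_inv_eq_iff_eq_mul.1 (hon a ha).1).symm
  have hoX' : o ∈ centralizer (W' : Set G) := mem_centralizer_iff.2 fun a ha =>
    (mul_inv_eq_iff_eq_mul.1 (hon a ha).2).symm
  refine ⟨o, le_core (K := core (centralizer (W : Set G)) ⊓ centralizer (W' : Set G)) inf_le_right
    ?_ ((odd_core _).of_dvd_nat (card_dvd_of_le inf_le_left)) ⟨ho, hoX'⟩, n, hn, hnX', rfl⟩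
  intro g hg
  have h1 := le_normalizer_core _ (centralizer_le h hg)
  have h2 : g ∈ normalizer ((centralizer (W' : Set G) : Subgroup G) : Set G) := le_normalizer hg
  exact mem_normalizer_iff.2 fun y =>
    and_congr (mem_normalizer_iff.1 h1 y) (mem_normalizer_iff.1 h2 y)

end Ctx

end CfsgLib.Recog.AltEightThree
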