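import Cfsg.Agent.Lib.LocalEvenB.SylowSympFour

/-!
Owner: helper29. The centre of a Sylow 2-subgroup of the alternating group of degree eight has order
at most two.
-/

set_option autoImplicit false
set_option maxRecDepth 8000
set_option maxHeartbeats 1000000

namespace CfsgLib.Recog.AltEightThree

open Equiv CfsgLib.LocalEvenB.EightPoints

theorem bools6_length : bools6.length = 2 ^ 6 := by decide

theorem code_nodup : (bools6.map fun b => code (el gens6 b)).Nodup := by decide +kernel

theorem central_list :
    ((bools6.filter fun b => (List.finRange 6).all fun i =>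
      decide (code (el gens6 b * gens6 i) = code (gens6 i * el gens6 b))).map
        fun b => code (el gens6 b)).length ≤ 2 := by decide +kernel

theorem exists_el {x : Perm (Fin 8)} (hx : x ∈ Subgroup.closure (Set.range gens6)) :
    ∃ b ∈ bools6, el gens6 b = x := by
  classical
  let S : Finset (Perm (Fin 8)) := (bools6.map (el gens6)).toFinset
  have hsub : (S : Set (Perm (Fin 8))) ⊆ (Subgroup.closure (Set.range gens6) : Set (Perm (Fin 8))) := by
    intro y hy
    obtain ⟨b, -, rfl⟩ := List.mem_map.1 (List.mem_toFinset.1 hy)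
    exact el_mem gens6 b _ fun j _ => Subgroup.subset_closure ⟨j, rfl⟩
  have hcard : S.card = 2 ^ 6 := by
    rw [List.card_toFinset, List.Nodup.dedup, List.length_map, bools6_length]
    have h := code_nodup
    rw [show (bools6.map fun b => code (el gens6 b)) = (bools6.map (el gens6)).map code by
      rw [List.map_map]; rfl] at h
    exact List.Nodup.of_map _ h
  have heq : (S : Set (Perm (Fin 8))) = (Subgroup.closure (Set.range gens6) : Set (Perm (Fin 8))) := by
    refine Set.eq_of_subset_of_ncard_le hsub ?_ (Set.toFinite _)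
    rw [Set.ncard_coe_finset, hcard, ← Nat.card_coe_set_eq]
    exact card_gens6.le
  have : x ∈ S := by
    rw [← Finset.mem_coe, heq]
    exact hx
  obtain ⟨b, hb, rfl⟩ := List.mem_map.1 (List.mem_toFinset.1 this)
  exact ⟨b, hb, rfl⟩

/-- The centre of a Sylow 2-subgroup of `A₈` has at most two elements. -/
theorem card_center_le (P : Sylow 2 ↥(alternatingGroup (Fin 8))) :
    Nat.card (Subgroup.center (P : Subgroup ↥(alternatingGroup (Fin 8)))) ≤ 2 := by
  classical
  obtain ⟨e⟩ := sylow_alt_eight P
  rw [← Nat.card_congr (Subgroup.centerCongr e).toEquiv]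
  set L := (bools6.filter fun b => (List.finRange 6).all fun i =>
      decide (code (el gens6 b * gens6 i) = code (gens6 i * el gens6 b))).map
        fun b => code (el gens6 b)
  let f : Subgroup.center ↥(Subgroup.closure (Set.range gens6)) → {n : ℕ // n ∈ L.toFinset} := fun z =>
    ⟨code ((z : ↥(Subgroup.closure (Set.range gens6))) : Perm (Fin 8)), by
      rcases z with ⟨⟨x, hx⟩, hz⟩
      obtain ⟨b, hb, rfl⟩ := exists_el hx
      rw [List.mem_toFinset]
      refine List.mem_map.2 ⟨b, List.mem_filter.2 ⟨hb, List.all_eq_true.2 fun i _ => ?_⟩, rfl⟩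
      have h : gens6 i * el gens6 b = el gens6 b * gens6 i := congrArg Subtype.val
        (Subgroup.mem_center_iff.1 hz ⟨gens6 i, Subgroup.subset_closure ⟨i, rfl⟩⟩)
      exact decide_eq_true (by rw [h])⟩
  have hf : Function.Injective f := by
    rintro ⟨⟨x, hx⟩, hz⟩ ⟨⟨y, hy⟩, hw⟩ h
    have h' : code x = code y := congrArg Subtype.val h
    obtain ⟨b, hb, rfl⟩ := exists_el hx
    obtain ⟨c, hc, rfl⟩ := exists_el hy
    have := List.inj_on_of_nodup_map code_nodup hb hc h'
    subst this
    rfl
  refine (Nat.card_le_card_of_injective f hf).trans ?_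
  rw [Nat.card_eq_fintype_card, Fintype.card_coe]
  exact L.toFinset_card_le.trans central_list

end CfsgLib.Recog.AltEightThree
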