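import Cfsg.Agent.Lib.Recog.AltEightThreeClasses.Top
import Cfsg.Agent.Lib.Recog.AltEightThreeClasses.Center

/-!
Owner: helper29. Coordinates for an elementary abelian subgroup of order sixteen whose normaliser
induces `A₅`, when the Sylow 2-subgroups have a centre of order at most two.
-/

set_option autoImplicit false
set_option maxRecDepth 8000

namespace CfsgLib.Recog.AltEightThree

open Subgroup Cfsg Equiv

universe u

/-- A vector with last coordinate zero. -/
def ext (f : Fin 4 → ZMod 2) : Vec := fun i => if h : i.val < 4 then f ⟨i.val, h⟩ else 0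

theorem ext_inj : ∀ f g : Fin 4 → ZMod 2, Eqv (ext f) (ext g) → f = g := by decide +kernel

theorem ext_fixed_card : ∀ τ : Perm (Fin 5), InV τ → τ ≠ 1 →
    (Finset.univ.filter fun f : Fin 4 → ZMod 2 => Eqv (ext f) (act τ (ext f))).card = 4 := by
  decide +kernel

theorem ext_z_card :
    (Finset.univ.filter fun f : Fin 4 → ZMod 2 => InZ (ext f)).card = 2 := by decide +kernel

theorem eqv_add : ∀ f g : Vec, Eqv f g ↔ Eqv 0 (f + g) := by decide +kernel

theorem inV_card : (Finset.univ.filter fun σ : Perm (Fin 5) => InV σ).card = 4 := by decide +kernel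

theorem sq_of_pow_four : ∀ σ : Perm (Fin 5), Perm.sign σ = 1 → σ ^ 4 = 1 → σ * σ = 1 := by
  decide +kernel

theorem exists_fixed_point : ∀ σ : Perm (Fin 5), Perm.sign σ = 1 → σ * σ = 1 → ∃ i, σ i = i := by
  decide +kernel

theorem fixed_shared : ∀ σ τ : Perm (Fin 5), Perm.sign σ = 1 ∧ σ * σ = 1 →
    Perm.sign τ = 1 ∧ τ * τ = 1 → σ ≠ 1 → σ * τ = τ * σ → ∀ i, σ i = i → τ i = i := by
  decide +kernel

theorem inV_gen : ∀ τ : Perm (Fin 5), InV τ → τ = 1 ∨ τ = swap 0 1 * swap 2 3 ∨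
    τ = swap 0 2 * swap 1 3 ∨ τ = swap 0 1 * swap 2 3 * (swap 0 2 * swap 1 3) := by decide +kernel

theorem inV_two : InV (swap (0 : Fin 5) 1 * swap 2 3) ∧ InV (swap (0 : Fin 5) 2 * swap 1 3) := by
  decide +kernel

theorem rot_facts : Perm.sign (finRotate 5) = 1 ∧ finRotate 5 ^ 5 = 1 ∧ finRotate 5 ≠ 1 := by
  decide +kernel

theorem conj_inV : ∀ σ τ : Perm (Fin 5), σ 4 = 4 → InV τ → InV (σ⁻¹ * τ * σ) := by
  intro σ τ h hτ
  refine ⟨?_, ?_, ?_⟩
  · simp only [Perm.mul_apply, h, hτ.1]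
    rw [Perm.inv_eq_iff_eq, h]
  · rw [show σ⁻¹ * τ * σ * (σ⁻¹ * τ * σ) = σ⁻¹ * (τ * τ) * σ by group, hτ.2.1]; group
  · simp [map_mul, hτ.2.2]

/-- Sylow 2-subgroups isomorphic to those of `A₈` have order 64 and centre of order at most two. -/
theorem sylow_facts {G : Type u} [Group G] [Finite G]
    (S : Sylow 2 G) (P : Sylow 2 ↥(alternatingGroup (Fin 8)))
    (hS : Nonempty (↥(S : Subgroup G) ≃* ↥(P : Subgroup ↥(alternatingGroup (Fin 8)))))
    (T : Sylow 2 G) :
    Nat.card (T : Subgroup G) = 64 ∧ Nat.card (center (T : Subgroup G)) ≤ 2 := by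
  have : Fact (Nat.Prime 2) := ⟨Nat.prime_two⟩
  obtain ⟨e⟩ := hS
  let e' := (Sylow.equiv T S).trans e
  refine ⟨?_, ?_⟩
  · rw [Nat.card_congr e'.toEquiv, P.card_eq_multiplicity, nat_card_alternatingGroup, Nat.card_fin]
    have : (Nat.factorial 8 / 2).factorization 2 = 6 := by
      rw [show Nat.factorial 8 / 2 = 2 ^ 6 * 315 by rfl,
        Nat.factorization_mul (by norm_num) (by norm_num), Finsupp.add_apply,
        Nat.Prime.factorization_pow Nat.prime_two, Finsupp.single_eq_same,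
        Nat.factorization_eq_zero_of_not_dvd (by norm_num)]
    rw [this]
    rfl
  · rw [Nat.card_congr (Subgroup.centerCongr e').toEquiv]
    exact card_center_le P

/-- An element whose fifth power centralises `A` and which fixes a nontrivial element of `A`
centralises `A`. -/
theorem centralizes_of_five {G : Type u} [Group G] [Finite G] {A : Subgroup G}
    (hA : Nat.card A = 16) {r : G} (hr : r ∈ normalizer (A : Set G))
    (h5 : ∀ a ∈ A, r ^ 5 * a * (r ^ 5)⁻¹ = a) {a0 : G} (ha0 : a0 ∈ A) (ha1 : a0 ≠ 1)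
    (hfix : r * a0 * r⁻¹ = a0) : ∀ a ∈ A, r * a * r⁻¹ = a := by
  have : Fact (Nat.Prime 5) := ⟨by norm_num⟩
  classical
  let c : G → Perm A := fun g => if hg : g ∈ normalizer (A : Set G) then
    { toFun := fun a => ⟨g * a * g⁻¹, (mem_normalizer_iff.1 hg a).1 a.2⟩
      invFun := fun a => ⟨g⁻¹ * a * g, (mem_normalizer_iff''.1 hg a).1 a.2⟩
      left_inv := fun a => Subtype.ext (by group)
      right_inv := fun a => Subtype.ext (by group) } else 1
  have hc : ∀ g ∈ normalizer (A : Set G), ∀ a : A, (c g a : G) = g * a * g⁻¹ := fun g hg a => by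
    simp only [c, dif_pos hg]; rfl
  have hpow : ∀ k : ℕ, ∀ a : A, (((c r) ^ k) a : G) = r ^ k * a * (r ^ k)⁻¹ := by
    intro k
    induction k with
    | zero => simp
    | succ k ih => intro a; rw [pow_succ', Perm.mul_apply, hc r hr, ih a, pow_succ']; group
  have hP : IsPGroup 5 (zpowers (c r)) := IsPGroup.of_card_dvd_pow (n := 1) (by
    rw [Nat.card_zpowers, pow_one]
    exact orderOf_dvd_of_pow_eq_one (Equiv.ext fun a => Subtype.ext (by
      rw [hpow, h5 a a.2]; rfl)))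
  have hm := hP.card_modEq_card_fixedPoints A
  set F : Subgroup G := A ⊓ centralizer ({r} : Set G) with hF
  have hcard : Nat.card (MulAction.fixedPoints (zpowers (c r)) A) = Nat.card F := by
    refine Nat.card_congr
      { toFun := fun a => ⟨a.1.1, a.1.2, mem_centralizer_singleton_iff.2 ?_⟩
        invFun := fun a => ⟨⟨a.1, a.2.1⟩, ?_⟩
        left_inv := fun a => rfl
        right_inv := fun a => rfl }
    · have h : ((c r a.1 : A) : G) = ((a.1 : A) : G) :=
        congrArg Subtype.val (a.2 ⟨c r, mem_zpowers _⟩ : c r a.1 = a.1)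
      rw [hc r hr] at h
      exact (mul_inv_eq_iff_eq_mul.1 h).symm
    · intro q
      have h1 : c r ⟨a.1, a.2.1⟩ = ⟨a.1, a.2.1⟩ := Subtype.ext (by
        rw [hc r hr]
        exact mul_inv_eq_iff_eq_mul.2 (mem_centralizer_singleton_iff.1 a.2.2).symm)
      obtain ⟨q, k, rfl⟩ := q
      show ((c r) ^ k) _ = _
      exact Equiv.Perm.zpow_apply_eq_self_of_apply_eq_self h1 k
  rw [hA, hcard] at hm
  have hle : F ≤ A := inf_le_left
  obtain ⟨k, hk, e⟩ := (Nat.dvd_prime_pow Nat.prime_two).1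
    (show Nat.card F ∣ 2 ^ 4 from (card_dvd_of_le hle).trans (by rw [hA]; norm_num))
  have h1 : Nat.card F ≠ 1 := fun h => ha1 (by
    have hmem : a0 ∈ F := ⟨ha0, mem_centralizer_singleton_iff.2 (mul_inv_eq_iff_eq_mul.1 hfix).symm⟩
    rwa [card_eq_one.1 h, mem_bot] at hmem)
  have hFA : F = A := by
    refine eq_of_le_of_card_ge hle ?_
    rw [hA, e]
    rw [e] at h1 hm
    unfold Nat.ModEq at hm
    interval_cases k <;> simp_all
  intro a ha
  rw [← hFA] at ha
  exact mul_inv_eq_iff_eq_mul.2 (mem_centralizer_singleton_iff.1 ha.2).symm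

/-- The model exists. -/
theorem exists_model {G : Type u} [Group G] [Finite G]
    (S : Sylow 2 G) (P : Sylow 2 ↥(alternatingGroup (Fin 8)))
    (hS : Nonempty (↥(S : Subgroup G) ≃* ↥(P : Subgroup ↥(alternatingGroup (Fin 8)))))
    (h3 : Nat.card {c : ConjClasses G // ∃ x ∈ c.carrier, orderOf x = 2} = 3)
    (A : Subgroup G) (hA : Cfsg.IsElementaryAbelian 2 A) (hA16 : Nat.card ↥A = 16)
    (hn : (A.subgroupOf (normalizer (A : Set G)) ⊔ oddCore ↥(normalizer (A : Set G))).Normal)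
    (e : ↥(normalizer (A : Set G)) ⧸ (A.subgroupOf (normalizer (A : Set G)) ⊔
      oddCore ↥(normalizer (A : Set G))) ≃* ↥(alternatingGroup (Fin 5))) :
    ∃ M : Model G, M.A = A := by
  classical
  have : Fact (Nat.Prime 2) := ⟨Nat.prime_two⟩
  set N := normalizer (A : Set G) with hN
  have hsq : ∀ a ∈ A, a * a = 1 := fun a ha => by rw [← pow_two]; exact hA.2 a ha
  have : IsMulCommutative A := hA.1
  let _ : CommGroup A :=
    { (inferInstance : Group A) with mul_comm := fun a b => hA.1.is_comm.comm a b }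
  have hcomm : ∀ a ∈ A, ∀ b ∈ A, a * b = b * a := fun a ha b hb =>
    congrArg Subtype.val (mul_comm (⟨a, ha⟩ : A) ⟨b, hb⟩)
  have hA2 : IsPGroup 2 A := IsPGroup.of_card (n := 4) (by rw [hA16]; norm_num)
  have hAN : A ≤ N := le_normalizer
  set K0 : Subgroup N := A.subgroupOf N ⊔ oddCore N with hK0
  -- the homomorphism onto `A₅`
  let ψ : N →* Perm (Fin 5) :=
    (alternatingGroup (Fin 5)).subtype.comp (e.toMonoidHom.comp (QuotientGroup.mk' K0))
  have hψker : ∀ n : N, ψ n = 1 ↔ n ∈ K0 := fun n => by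
    show ((e (QuotientGroup.mk' K0 n) : alternatingGroup (Fin 5)) : Perm (Fin 5)) = 1 ↔ _
    rw [OneMemClass.coe_eq_one, MulEquiv.map_eq_one_iff]
    exact QuotientGroup.eq_one_iff n
  have hψsign : ∀ n : N, Perm.sign (ψ n) = 1 := fun n =>
    Equiv.Perm.mem_alternatingGroup.1 (e (QuotientGroup.mk' K0 n)).2
  have hψsurj : ∀ σ : Perm (Fin 5), Perm.sign σ = 1 → ∃ n : N, ψ n = σ := fun σ hσ => by
    obtain ⟨n, hn'⟩ := QuotientGroup.mk'_surjective K0
      (e.symm ⟨σ, Equiv.Perm.mem_alternatingGroup.2 hσ⟩)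
    refine ⟨n, ?_⟩
    show ((e (QuotientGroup.mk' K0 n) : alternatingGroup (Fin 5)) : Perm (Fin 5)) = σ
    rw [hn', MulEquiv.apply_symm_apply]
  have hK0dec : ∀ n : N, n ∈ K0 → ∃ o ∈ core N, ∃ a ∈ A, (n : G) = o * a := by
    intro n hn'
    rw [hK0, sup_comm] at hn'
    obtain ⟨o, ho, a, ha, h⟩ := mem_sup_of_normal_left.1 hn'
    exact ⟨o, ⟨o, ho, rfl⟩, a, ha, by rw [← h]; rfl⟩
  have hcoreA : ∀ o ∈ core N, ∀ a ∈ A, o * a * o⁻¹ = a := by
    intro o ho a ha
    have h1 : o * a * o⁻¹ * a⁻¹ ∈ A :=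
      mul_mem ((mem_normalizer_iff.1 (AltEightThree.core_le N ho) a).1 ha) (inv_mem ha)
    have h2 : o * a * o⁻¹ * a⁻¹ ∈ core N := by
      rw [show o * a * o⁻¹ * a⁻¹ = o * (a * o⁻¹ * a⁻¹) by group]
      exact mul_mem ho ((mem_normalizer_iff.1 (le_normalizer_core N (hAN ha)) _).1 (inv_mem ho))
    exact mul_inv_eq_one.1 (eq_one_of_odd hA2 h1 (odd_orderOf_core h2))
  have hK0cent : ∀ n : N, n ∈ K0 → ∀ a ∈ A, (n : G) * a * (n : G)⁻¹ = a := by
    intro n hn' a ha
    obtain ⟨o, ho, b, hb, h⟩ := hK0dec n hn'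
    rw [h, show o * b * a * (o * b)⁻¹ = o * (b * a * b⁻¹) * o⁻¹ by group, hcomm b hb a ha,
      mul_inv_cancel_right, hcoreA o ho a ha]
  -- a Sylow 2-subgroup containing `A` and normalising it
  obtain ⟨T0, hAT, hT0N, hT0, hT0i⟩ := CfsgLib.Transfer.exists_sylow_of_le hAN hA2
  obtain ⟨P0, hP0⟩ := hT0.exists_le_sylow
  have hP64 := (sylow_facts S P hS P0).1
  have hT64 : Nat.card T0 = 64 := by
    have h1 : 64 ∣ Nat.card T0 * T0.relIndex N := by
      rw [show Nat.card T0 * T0.relIndex N = Nat.card N by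
        rw [relIndex, ← Nat.card_congr (subgroupOfEquivOfLe hT0N).toEquiv, card_mul_index],
        ← K0.card_mul_index, index_eq_card, Nat.card_congr e.toEquiv, nat_card_alternatingGroup,
        Nat.card_fin]
      have h16 : 16 ∣ Nat.card K0 := by
        rw [← hA16, ← Nat.card_congr (subgroupOfEquivOfLe hAN).toEquiv]
        exact card_dvd_of_le le_sup_left
      refine dvd_trans ?_ (Nat.mul_dvd_mul h16 (dvd_refl _))
      decide
    have h2 : 64 ∣ Nat.card T0 := (Nat.Coprime.dvd_of_dvd_mul_right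
      (Nat.Coprime.pow_left 6 ((Nat.prime_two.coprime_iff_not_dvd).2 hT0i)) h1)
    have h3 := Nat.le_of_dvd Nat.card_pos h2
    have h4 := card_le_of_le hP0
    omega
  have hTP : T0 = (P0 : Subgroup G) := eq_of_le_of_card_ge hP0 (by rw [hT64, hP64])
  subst hTP
  have hcenter := (sylow_facts S P hS P0).2
  have hTker : ∀ t (ht : t ∈ (P0 : Subgroup G)), ψ ⟨t, hT0N ht⟩ = 1 → t ∈ A := by
    intro t ht h
    obtain ⟨o, ho, a, ha, h'⟩ := hK0dec _ ((hψker _).1 h)
    change t = o * a at h'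
    have : o ∈ (P0 : Subgroup G) := by
      rw [show o = t * a⁻¹ by rw [h']; group]; exact mul_mem ht (inv_mem (hAT ha))
    rw [eq_one_of_odd hT0 this (odd_orderOf_core ho), one_mul] at h'
    exact h' ▸ ha
  -- move the image of the Sylow subgroup to `V`
  let φ : (P0 : Subgroup G) →* Perm (Fin 5) := ψ.comp (inclusion hT0N)
  have hrange : Nat.card φ.range = 4 := by
    have hk : φ.ker = A.subgroupOf (P0 : Subgroup G) := by
      ext t
      refine ⟨fun h => hTker t t.2 h, fun h => ?_⟩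
      exact (hψker _).2 (mem_sup_left (mem_subgroupOf.2 (mem_subgroupOf.1 h)))
    have h := φ.ker.card_mul_index
    rw [index_ker, hk, Nat.card_congr (subgroupOfEquivOfLe hAT).toEquiv, hA16, hT64] at h
    omega
  have hrsq : ∀ σ ∈ φ.range, Perm.sign σ = 1 ∧ σ * σ = 1 := by
    rintro _ ⟨t, rfl⟩
    have h4 : φ t ^ 4 = 1 := by
      have := congrArg Subtype.val (pow_card_eq_one' (x := (⟨φ t, t, rfl⟩ : φ.range)))
      rwa [hrange] at this
    exact ⟨hψsign _, sq_of_pow_four _ (hψsign _) h4⟩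
  obtain ⟨σ0, hσ0, hσ01⟩ : ∃ σ ∈ φ.range, σ ≠ 1 := by
    by_contra h
    push Not at h
    rw [(eq_bot_iff_forall _).2 h, card_bot] at hrange
    omega
  obtain ⟨i, hi⟩ := exists_fixed_point σ0 (hrsq σ0 hσ0).1 (hrsq σ0 hσ0).2
  obtain ⟨ρ, -, hρ, hρ4⟩ := exists_even_to i
  let π0 : N →* Perm (Fin 5) := (MulAut.conj ρ⁻¹).toMonoidHom.comp ψ
  have hπ0 : ∀ n : N, π0 n = ρ⁻¹ * ψ n * ρ := fun n => by
    show ρ⁻¹ * ψ n * ρ⁻¹⁻¹ = _
    rw [inv_inv]
  have hπker : ∀ n : N, π0 n = 1 ↔ n ∈ K0 := fun n => by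
    rw [← hψker, hπ0]
    constructor
    · intro h
      rw [show ψ n = ρ * (ρ⁻¹ * ψ n * ρ) * ρ⁻¹ by group, h]; group
    · intro h; rw [h]; group
  have hπsign : ∀ n : N, Perm.sign (π0 n) = 1 := fun n => by
    rw [hπ0, map_mul, map_mul, map_inv, hψsign, hρ]; rfl
  have hπsurj : ∀ σ : Perm (Fin 5), Perm.sign σ = 1 → ∃ n : N, π0 n = σ := fun σ hσ => by
    obtain ⟨n, hn'⟩ := hψsurj (ρ * σ * ρ⁻¹) (by rw [map_mul, map_mul, map_inv, hσ, hρ]; rfl)
    exact ⟨n, by rw [hπ0, hn']; group⟩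
  have hπS : ∀ t (ht : t ∈ (P0 : Subgroup G)), InV (π0 ⟨t, hT0N ht⟩) := by
    intro t ht
    have hmem : ψ ⟨t, hT0N ht⟩ ∈ φ.range := ⟨⟨t, ht⟩, rfl⟩
    have h := hrsq _ hmem
    have hc : σ0 * ψ ⟨t, hT0N ht⟩ = ψ ⟨t, hT0N ht⟩ * σ0 := by
      have h2 := (hrsq _ (mul_mem hσ0 hmem)).2
      have e1 := inv_eq_of_mul_eq_one_right h2
      rw [mul_inv_rev, inv_eq_of_mul_eq_one_right h.2, inv_eq_of_mul_eq_one_right (hrsq σ0 hσ0).2]
        at e1
      exact e1.symm
    have hfix := fixed_shared σ0 _ (hrsq σ0 hσ0) h hσ01 hc i hi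
    refine ⟨?_, ?_, hπsign _⟩
    · rw [hπ0]
      simp only [Perm.mul_apply, hρ4, hfix]
      rw [Perm.inv_eq_iff_eq, hρ4]
    · rw [hπ0, show ρ⁻¹ * ψ ⟨t, hT0N ht⟩ * ρ * (ρ⁻¹ * ψ ⟨t, hT0N ht⟩ * ρ) =
        ρ⁻¹ * (ψ ⟨t, hT0N ht⟩ * ψ ⟨t, hT0N ht⟩) * ρ by group, h.2]
      group
  have hπV : ∀ τ : Perm (Fin 5), InV τ → ∃ t, ∃ ht : t ∈ (P0 : Subgroup G), π0 ⟨t, hT0N ht⟩ = τ := by
    intro τ hτ
    let f : φ.range → {σ : Perm (Fin 5) // InV σ} := fun σ => ⟨ρ⁻¹ * σ.1 * ρ, by
      obtain ⟨_, ⟨t, rfl⟩⟩ := σ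
      exact hπ0 ⟨t.1, hT0N t.2⟩ ▸ hπS t.1 t.2⟩
    have hfi : Function.Injective f := fun σ σ' h =>
      Subtype.ext (mul_left_cancel (mul_right_cancel (Subtype.ext_iff.1 h)))
    have hb := (Fintype.bijective_iff_injective_and_card f).2 ⟨hfi, by
      rw [← Nat.card_eq_fintype_card, hrange, Fintype.card_subtype, inV_card]⟩
    obtain ⟨⟨_, ⟨t, rfl⟩⟩, ht⟩ := hb.2 ⟨τ, hτ⟩
    exact ⟨t.1, t.2, (hπ0 _).trans (congrArg Subtype.val ht)⟩
  -- elements with equal images act equally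
  have hsame : ∀ m n : N, π0 m = π0 n → ∀ a ∈ A,
      (m : G) * a * (m : G)⁻¹ = (n : G) * a * (n : G)⁻¹ := by
    intro m n h a ha
    have hk : n⁻¹ * m ∈ K0 := (hπker _).1 (by rw [map_mul, map_inv, h, inv_mul_cancel])
    have := hK0cent _ hk a ha
    rw [Subgroup.coe_mul, InvMemClass.coe_inv] at this
    calc (m : G) * a * (m : G)⁻¹
        = n * ((n : G)⁻¹ * m * a * ((n : G)⁻¹ * m)⁻¹) * (n : G)⁻¹ := by group
      _ = _ := by rw [this]
  obtain ⟨s, hs, hsπ⟩ := hπV _ inV_two.1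
  obtain ⟨t, ht, htπ⟩ := hπV _ inV_two.2
  have hfixall : ∀ a ∈ A, s * a * s⁻¹ = a → t * a * t⁻¹ = a →
      ∀ y ∈ (P0 : Subgroup G), y * a * y⁻¹ = a := by
    intro a ha h1 h2 y hy
    rcases inV_gen _ (hπS y hy) with h | h | h | h
    · exact hK0cent ⟨y, hT0N hy⟩ ((hπker _).1 h) a ha
    · exact (hsame ⟨y, hT0N hy⟩ ⟨s, hT0N hs⟩ (h.trans hsπ.symm) a ha).trans h1
    · exact (hsame ⟨y, hT0N hy⟩ ⟨t, hT0N ht⟩ (h.trans htπ.symm) a ha).trans h2
    · refine (hsame ⟨y, hT0N hy⟩ (⟨s, hT0N hs⟩ * ⟨t, hT0N ht⟩)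
        (by rw [map_mul, hsπ, htπ]; exact h) a ha).trans ?_
      show s * t * a * (s * t)⁻¹ = a
      rw [show s * t * a * (s * t)⁻¹ = s * (t * a * t⁻¹) * s⁻¹ by group, h2, h1]
  have huniq : ∀ a ∈ A, ∀ b ∈ A, a ≠ 1 → b ≠ 1 → (∀ y ∈ (P0 : Subgroup G), y * a * y⁻¹ = a) →
      (∀ y ∈ (P0 : Subgroup G), y * b * y⁻¹ = b) → a = b := by
    intro a ha b hb ha1 hb1 hfa hfb
    by_contra hab
    have hmem : ∀ c (hc : c ∈ A), (∀ y ∈ (P0 : Subgroup G), y * c * y⁻¹ = c) →
        (⟨c, hAT hc⟩ : (P0 : Subgroup G)) ∈ center (P0 : Subgroup G) := fun c hc h =>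
      Subgroup.mem_center_iff.2 fun y => Subtype.ext (mul_inv_eq_iff_eq_mul.1 (h y y.2))
    let φ3 : Fin 3 → center (P0 : Subgroup G) :=
      ![1, ⟨_, hmem a ha hfa⟩, ⟨_, hmem b hb hfb⟩]
    have hinj : Function.Injective φ3 := by
      intro i j hij
      have := congrArg (fun z : center (P0 : Subgroup G) => ((z : (P0 : Subgroup G)) : G)) hij
      fin_cases i <;> fin_cases j <;> simp only [φ3] at this ⊢
      all_goals first
        | rfl
        | exact absurd this ha1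
        | exact absurd this.symm ha1
        | exact absurd this hb1
        | exact absurd this.symm hb1
        | exact absurd this hab
        | exact absurd this.symm hab
    have := Nat.card_le_card_of_injective φ3 hinj
    rw [Nat.card_fin] at this
    omega
  have hex : ∃ a ∈ A, a ≠ 1 ∧ ∀ y ∈ (P0 : Subgroup G), y * a * y⁻¹ = a := by
    obtain ⟨a, ha1⟩ := Finite.one_lt_card_iff_nontrivial.1 (show 1 < Nat.card A by omega)
      |>.exists_pair_ne |> fun ⟨p, q, hpq⟩ => (show ∃ a : A, a ≠ 1 by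
        by_contra h
        push Not at h
        exact hpq ((h p).trans (h q).symm))
    have ha := a.2
    have ha1 : (a : G) ≠ 1 := fun h => ha1 (Subtype.ext h)
    generalize (a : G) = a at ha ha1
    have key : ∀ y, y ∈ (P0 : Subgroup G) → ∀ c ∈ A, c ≠ 1 →
        ∀ d, d = c * (y * c * y⁻¹) → d ∈ A ∧ y * d * y⁻¹ = d := by
      intro y hy c hc _ d hd
      have hyc : y * c * y⁻¹ ∈ A := (mem_normalizer_iff.1 (hT0N hy) c).1 hc
      refine ⟨hd ▸ mul_mem hc hyc, ?_⟩
      have hy2 : y * (y * c * y⁻¹) * y⁻¹ = c := by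
        rw [show y * (y * c * y⁻¹) * y⁻¹ = y * y * c * (y * y)⁻¹ by group]
        exact hK0cent (⟨y, hT0N hy⟩ * ⟨y, hT0N hy⟩)
          ((hπker _).1 (by rw [map_mul, (hπS y hy).2.1])) c hc
      rw [hd, show y * (c * (y * c * y⁻¹)) * y⁻¹ = (y * c * y⁻¹) * (y * (y * c * y⁻¹) * y⁻¹) by group,
        hy2, hcomm _ hyc _ hc]
    obtain ⟨b, hb, hb1, hbs⟩ : ∃ b ∈ A, b ≠ 1 ∧ s * b * s⁻¹ = b := by
      by_cases h : s * a * s⁻¹ = a
      · exact ⟨a, ha, ha1, h⟩
      · obtain ⟨h1, h2⟩ := key s hs a ha ha1 _ rfl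
        refine ⟨_, h1, fun h' => h ?_, h2⟩
        rw [eq_inv_of_mul_eq_one_right h', inv_eq_of_mul_eq_one_right (hsq a ha)]
    by_cases h : t * b * t⁻¹ = b
    · exact ⟨b, hb, hb1, hfixall b hb hbs h⟩
    · obtain ⟨h1, h2⟩ := key t ht b hb hb1 _ rfl
      refine ⟨_, h1, fun h' => h ?_, hfixall _ h1 ?_ h2⟩
      · rw [eq_inv_of_mul_eq_one_right h', inv_eq_of_mul_eq_one_right (hsq b hb)]
      · have hst : s * (t * b * t⁻¹) * s⁻¹ = t * b * t⁻¹ := by
          have := hsame (⟨s, hT0N hs⟩ * ⟨t, hT0N ht⟩) (⟨t, hT0N ht⟩ * ⟨s, hT0N hs⟩)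
            (by rw [map_mul, map_mul, inV_commute _ _ (hπS s hs) (hπS t ht)]) b hb
          change s * t * b * (s * t)⁻¹ = t * s * b * (t * s)⁻¹ at this
          rw [show s * (t * b * t⁻¹) * s⁻¹ = s * t * b * (s * t)⁻¹ by group, this,
            show t * s * b * (t * s)⁻¹ = t * (s * b * s⁻¹) * t⁻¹ by group, hbs]
        rw [show s * (b * (t * b * t⁻¹)) * s⁻¹ = (s * b * s⁻¹) * (s * (t * b * t⁻¹) * s⁻¹) by group,
          hbs, hst]
  obtain ⟨a0, ha0, ha01, ha0fix⟩ := hex
  have hstab : ∀ n : N, π0 n 4 = 4 → (n : G) * a0 * (n : G)⁻¹ = a0 := by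
    intro n hn4
    have hmA : (n : G) * a0 * (n : G)⁻¹ ∈ A := (mem_normalizer_iff.1 n.2 a0).1 ha0
    refine huniq _ hmA a0 ha0 (fun h => ha01 (conj_eq_one_iff.1 h)) ha01 (fun y hy => ?_) ha0fix
    obtain ⟨y', hy', hy'π⟩ := hπV _ (conj_inV _ _ hn4 (hπS y hy))
    have h := hsame (n⁻¹ * ⟨y, hT0N hy⟩ * n) ⟨y', hT0N hy'⟩
      (by rw [map_mul, map_mul, map_inv, hy'π]) a0 ha0
    rw [ha0fix y' hy'] at h
    change (n : G)⁻¹ * y * n * a0 * ((n : G)⁻¹ * y * n)⁻¹ = a0 at h
    calc y * ((n : G) * a0 * (n : G)⁻¹) * y⁻¹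
        = n * ((n : G)⁻¹ * y * n * a0 * ((n : G)⁻¹ * y * n)⁻¹) * (n : G)⁻¹ := by group
      _ = _ := by rw [h]
  -- the five points
  have hpt : ∀ j : Fin 5, ∃ n : N, π0 n 4 = j := by
    intro j
    obtain ⟨σ, -, hσ, hσ4⟩ := exists_even_to j
    obtain ⟨n, hn'⟩ := hπsurj σ hσ
    exact ⟨n, by rw [hn', hσ4]⟩
  choose nn hnn using hpt
  let x : Fin 5 → A := fun j =>
    ⟨(nn j : G) * a0 * (nn j : G)⁻¹, (mem_normalizer_iff.1 (nn j).2 a0).1 ha0⟩
  have hconjx : ∀ (n : N) (j : Fin 5),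
      (n : G) * (x j : G) * (n : G)⁻¹ = (x (π0 n j) : G) := by
    intro n j
    have h := hstab ((nn (π0 n j))⁻¹ * (n * nn j)) (by
      rw [map_mul, map_inv, map_mul]
      simp only [Perm.mul_apply, hnn]
      rw [Perm.inv_eq_iff_eq, hnn])
    change (nn (π0 n j) : G)⁻¹ * (n * nn j) * a0 * ((nn (π0 n j) : G)⁻¹ * (n * nn j))⁻¹ = a0 at h
    show (n : G) * ((nn j : G) * a0 * (nn j : G)⁻¹) * (n : G)⁻¹ = nn (π0 n j) * a0 * (nn (π0 n j) : G)⁻¹
    nth_rw 2 [← h]
    group
  have hx4 : (x 4 : G) = a0 := hstab (nn 4) (hnn 4)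
  obtain ⟨r, hr⟩ := hπsurj _ rot_facts.1
  have hnotfix : ∀ a ∈ A, (r : G) * a * (r : G)⁻¹ = a → a = 1 := by
    intro a ha hfix
    by_contra ha1
    have h5 : ∀ b ∈ A, (r : G) ^ 5 * b * ((r : G) ^ 5)⁻¹ = b := fun b hb => by
      have := hK0cent (r ^ 5) ((hπker _).1 (by rw [map_pow, hr, rot_facts.2.1])) b hb
      rwa [SubmonoidClass.coe_pow] at this
    have hc := centralizes_of_five hA16 r.2 h5 ha ha1 hfix
    -- a Sylow subgroup then centralises too much
    obtain ⟨b, hb, hb0, hb1⟩ : ∃ b ∈ A, b ≠ a0 ∧ b ≠ 1 := by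
      by_contra h
      push Not at h
      let g : A → Bool := fun c => decide ((c : G) = a0)
      have hg : Function.Injective g := by
        intro c d hcd
        have hcd' : ((c : G) = a0) ↔ ((d : G) = a0) := decide_eq_decide.1 hcd
        refine Subtype.ext ?_
        by_cases hc : (c : G) = a0
        · rw [hc, hcd'.1 hc]
        · rw [h c c.2 hc, h d d.2 fun h' => hc (hcd'.2 h')]
      have := Nat.card_le_card_of_injective g hg
      rw [hA16, Nat.card_eq_fintype_card, Fintype.card_bool] at this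
      omega
    have hbfix : ∀ y ∈ (P0 : Subgroup G), y * b * y⁻¹ = b := by
      intro y hy
      by_contra hne
      -- the kernel of the action is normal and contains the rotation
      let L : Subgroup N :=
        { carrier := {n | ∀ a ∈ A, (n : G) * a * (n : G)⁻¹ = a}
          one_mem' := fun a _ => by simp
          mul_mem' := fun {m n} hm hn a ha => by
            rw [Subgroup.coe_mul, show (m : G) * n * a * ((m : G) * n)⁻¹ =
              m * (n * a * (n : G)⁻¹) * (m : G)⁻¹ by group, hn a ha, hm a ha]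
          inv_mem' := fun {m} hm a ha => by
            rw [InvMemClass.coe_inv]
            nth_rw 1 [← hm a ha]
            group }
      have hLn : L.Normal := ⟨fun l hl m a ha => by
        rw [Subgroup.coe_mul, Subgroup.coe_mul, InvMemClass.coe_inv,
          show (m : G) * l * (m : G)⁻¹ * a * ((m : G) * l * (m : G)⁻¹)⁻¹ =
            m * (l * ((m : G)⁻¹ * a * m) * (l : G)⁻¹) * (m : G)⁻¹ by group,
          hl _ ((mem_normalizer_iff''.1 m.2 a).1 ha)]
        group⟩
      let q : N →* alternatingGroup (Fin 5) := π0.codRestrict _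
        fun n => Equiv.Perm.mem_alternatingGroup.2 (hπsign n)
      have hq : Function.Surjective q := fun σ => by
        obtain ⟨n, hn'⟩ := hπsurj σ.1 (Equiv.Perm.mem_alternatingGroup.1 σ.2)
        exact ⟨n, Subtype.ext hn'⟩
      have : (L.map q).Normal := hLn.map q hq
      rcases (IsSimpleGroup.eq_bot_or_eq_top_of_normal (L.map q) this) with hbot | htop
      · have : q r ∈ L.map q := mem_map_of_mem q hc
        rw [hbot, mem_bot] at this
        exact rot_facts.2.2 (hr ▸ congrArg Subtype.val this)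
      · have hmem : q ⟨y, hT0N hy⟩ ∈ L.map q := htop ▸ mem_top _
        obtain ⟨l, hl, hlq⟩ := hmem
        exact hne ((hsame ⟨y, hT0N hy⟩ l (congrArg Subtype.val hlq.symm) b hb).trans (hl b hb))
    exact hb0 (huniq b hb a0 ha0 hb1 ha01 hbfix ha0fix)
  have hxinj : Function.Injective x := by
    intro i j hij
    by_contra hne
    have hij' : (x i : G) = x j := congrArg Subtype.val hij
    refine ha01 (hnotfix a0 ha0 ?_)
    rw [← hx4, hconjx]
    by_cases h4 : π0 r 4 = 4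
    · rw [h4]
    obtain ⟨σ, -, hσ, hσi, hσj⟩ := exists_even_pair i j hne
    obtain ⟨τ, -, hτ, hτ0, hτ1⟩ := exists_even_pair (π0 r 4) 4 h4
    obtain ⟨n, hn'⟩ := hπsurj (τ * σ⁻¹) (by rw [map_mul, map_inv, hσ, hτ]; rfl)
    have h1 := hconjx n i
    have h2 := hconjx n j
    have e0 : σ⁻¹ i = 0 := by rw [Perm.inv_eq_iff_eq, hσi]
    have e1 : σ⁻¹ j = 1 := by rw [Perm.inv_eq_iff_eq, hσj]
    rw [hn', Perm.mul_apply, e0, hτ0] at h1
    rw [hn', Perm.mul_apply, e1, hτ1] at h2
    rw [← h1, ← h2, hij']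
  let val : Vec → A := fun f => ∏ j, x j ^ (f j).val
  have hpow2 : ∀ (a : A) (p q : ZMod 2), a ^ (p + q).val = a ^ p.val * a ^ q.val := by
    intro a p q
    have ha2 : a * a = 1 := Subtype.ext (hsq a a.2)
    fin_cases p <;> fin_cases q
    · exact (one_mul _).symm.trans (by rw [← pow_zero a]; rfl)
    · show a ^ 1 = a ^ 0 * a ^ 1
      rw [pow_zero, one_mul]
    · show a ^ 1 = a ^ 1 * a ^ 0
      rw [pow_zero, mul_one]
    · show a ^ 0 = a ^ 1 * a ^ 1
      rw [pow_zero, pow_one, ha2]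
  have hadd : ∀ f g, val (f + g) = val f * val g := fun f g => by
    simp only [val, ← Finset.prod_mul_distrib, Pi.add_apply, hpow2]
  have hconjval : ∀ (n : N) (f : Vec),
      (n : G) * (val f : G) * (n : G)⁻¹ = (val (act (π0 n) f) : G) := by
    intro n f
    let cn : A →* A :=
      { toFun := fun a => ⟨(n : G) * a * (n : G)⁻¹, (mem_normalizer_iff.1 n.2 a).1 a.2⟩
        map_one' := Subtype.ext (by simp)
        map_mul' := fun a b => Subtype.ext (by
          show (n : G) * (a * b) * (n : G)⁻¹ = (n * a * (n : G)⁻¹) * (n * b * (n : G)⁻¹)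
          group) }
    show ((cn (val f) : A) : G) = _
    refine congrArg Subtype.val ?_
    rw [show val (act (π0 n) f) = ∏ j, x (π0 n j) ^ (act (π0 n) f (π0 n j)).val from
      (Equiv.prod_comp (π0 n) fun j => x j ^ (act (π0 n) f j).val).symm]
    show cn (∏ j, x j ^ (f j).val) = _
    rw [map_prod]
    refine Finset.prod_congr rfl fun j _ => ?_
    have : cn (x j) = x (π0 n j) := Subtype.ext (hconjx n j)
    rw [map_pow, this]
    show _ = x (π0 n j) ^ (f ((π0 n)⁻¹ (π0 n j))).val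
    rw [Perm.inv_eq_iff_eq.2 rfl]
  have hzero : val 0 = 1 := by simp [val]
  have hone : val 1 = 1 := by
    refine Subtype.ext (hnotfix _ (val 1).2 ?_)
    rw [hconjval]
    rfl
  have hunit : ∀ j, val (unit j) = x j := by
    intro j
    show ∏ k, x k ^ (unit j k).val = x j
    rw [Finset.prod_eq_single j (fun k _ hk => by simp [unit, hk]) (by simp),
      show (unit j j).val = 1 by simp only [unit, if_true]; rfl, pow_one]
  have hker : ∀ f, val f = 1 → Eqv 0 f := by
    intro f hf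
    by_contra h0
    have hshift : ∀ g, Eqv g f → val g = 1 := by
      rintro g (h | h)
      · rw [← h, hf]
      · rw [h, hadd, hone, mul_one] at hf; exact hf
    by_cases hw : W1 f
    · obtain ⟨i, hi⟩ := hw
      have hxi : (x i : G) = 1 := by rw [← hunit, hshift _ hi]; rfl
      obtain ⟨n, hn'⟩ : ∃ n : N, π0 n i = 4 := ⟨(nn i)⁻¹, by
        rw [map_inv, Perm.inv_eq_iff_eq, hnn]⟩
      have := hconjx n i
      rw [hxi, hn', mul_one, mul_inv_cancel, hx4] at this
      exact ha01 this.symm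
    · obtain ⟨i, j, hij, hij'⟩ := weight_two f h0 hw
      have h := hshift _ hij'
      rw [hadd, hunit, hunit] at h
      have hxx : x j * x j = 1 := Subtype.ext (hsq _ (x j).2)
      exact hij (hxinj (mul_right_cancel (h.trans hxx.symm)))
  have hvaleq : ∀ f g, val f = val g ↔ Eqv f g := by
    intro f g
    constructor
    · intro h
      refine (eqv_add f g).2 (hker _ ?_)
      rw [hadd, h]
      exact Subtype.ext (hsq _ (val g).2)
    · rintro (rfl | rfl)
      · rfl
      · rw [hadd, hone, mul_one]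
  let v4 : (Fin 4 → ZMod 2) → A := fun f => val (ext f)
  have hb : Function.Bijective v4 := by
    let _ : Fintype A := Fintype.ofFinite A
    refine (Fintype.bijective_iff_injective_and_card v4).2
      ⟨fun f g h => ext_inj f g ((hvaleq _ _).1 h), ?_⟩
    rw [← Nat.card_eq_fintype_card (α := A), hA16]
    rfl
  -- uniqueness of `A` in the Sylow subgroup
  have hcu : ∀ B : Subgroup G, B ≤ (P0 : Subgroup G) → (∀ b ∈ B, b * b = 1) →
      Nat.card B = Nat.card A → B = A := by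
    intro B hB hB2 hBc
    by_contra hne
    let χ : B →* Perm (Fin 5) := π0.comp (inclusion (hB.trans hT0N))
    have hχk : ∀ b : B, χ b = 1 → (b : G) ∈ A := by
      intro b h
      refine hTker b (hB b.2) ?_
      exact (hψker _).2 ((hπker _).1 h)
    have hBcomm : ∀ a b : B, (a : G) * b = b * a := fun a b => by
      have h := inv_eq_of_mul_eq_one_right (hB2 _ (mul_mem a.2 b.2))
      rw [mul_inv_rev, inv_eq_of_mul_eq_one_right (hB2 _ a.2),
        inv_eq_of_mul_eq_one_right (hB2 _ b.2)] at h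
      exact h.symm
    obtain ⟨b1, hb1⟩ : ∃ b : B, χ b ≠ 1 := by
      by_contra h
      push Not at h
      exact hne (eq_of_le_of_card_ge (fun b hb => hχk ⟨b, hb⟩ (h _)) hBc.ge)
    have hfixk : ∀ (b : B) (d : χ.ker), ∀ f, v4 f = ⟨_, hχk d.1 d.2⟩ →
        Eqv (ext f) (act (χ b) (ext f)) := by
      intro b d f hf
      refine (hvaleq _ _).1 (Subtype.ext ?_)
      show ((v4 f : A) : G) = _
      rw [show ((val (act (χ b) (ext f))) : G) = (b : G) * (v4 f : G) * (b : G)⁻¹ from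
        (hconjval ⟨b, hT0N (hB b.2)⟩ (ext f)).symm, hf]
      show ((d : B) : G) = (b : G) * (d : B) * (b : G)⁻¹
      rw [hBcomm b d.1, mul_inv_cancel_right]
    let pre : χ.ker → (Fin 4 → ZMod 2) := fun d => (hb.2 ⟨_, hχk d.1 d.2⟩).choose
    have hpre : ∀ d, v4 (pre d) = ⟨_, hχk d.1 d.2⟩ := fun d => (hb.2 _).choose_spec
    have hprei : Function.Injective pre := fun d d' h =>
      Subtype.ext (Subtype.ext (congrArg Subtype.val ((hpre d).symm.trans ((congrArg v4 h).trans (hpre d'))) :))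
    have hcard := χ.ker.card_mul_index
    rw [index_ker, hBc, hA16] at hcard
    have hrV : ∀ σ ∈ χ.range, InV σ := by
      rintro _ ⟨b, rfl⟩; exact hπS b (hB b.2)
    by_cases hone' : ∀ b : B, χ b = 1 ∨ χ b = χ b1
    · have hr2 : Nat.card χ.range ≤ 2 := by
        let g : χ.range → Bool := fun σ => decide (σ.1 = 1)
        have hg : Function.Injective g := by
          rintro ⟨_, ⟨b, rfl⟩⟩ ⟨_, ⟨b', rfl⟩⟩ h
          have h' : χ b = 1 ↔ χ b' = 1 := decide_eq_decide.1 h
          refine Subtype.ext ?_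
          show χ b = χ b'
          rcases hone' b with hb' | hb'
          · rw [hb', h'.1 hb']
          · rcases hone' b' with hb'' | hb''
            · rw [hb'', h'.2 hb'']
            · rw [hb', hb'']
        refine (Nat.card_le_card_of_injective g hg).trans ?_
        rw [Nat.card_eq_fintype_card, Fintype.card_bool]
      have hk4 : Nat.card χ.ker ≤ 4 := by
        refine le_of_le_of_eq (Nat.card_le_card_of_injective
          (β := (Finset.univ.filter fun f : Fin 4 → ZMod 2 => Eqv (ext f) (act (χ b1) (ext f))))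
          (fun d => ⟨pre d, Finset.mem_filter.2 ⟨Finset.mem_univ _, hfixk b1 d _ (hpre d)⟩⟩)
          fun d d' h => hprei (congrArg Subtype.val h)) ?_
        rw [Nat.card_eq_fintype_card, Fintype.card_coe]
        exact ext_fixed_card _ (hrV _ ⟨b1, rfl⟩) hb1
      have := Nat.mul_le_mul hk4 hr2
      omega
    · push Not at hone'
      obtain ⟨b2, hb2, hb21⟩ := hone'
      have hk2 : Nat.card χ.ker ≤ 2 := by
        refine le_of_le_of_eq (Nat.card_le_card_of_injective
          (β := (Finset.univ.filter fun f : Fin 4 → ZMod 2 => InZ (ext f)))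
          (fun d => ⟨pre d, Finset.mem_filter.2 ⟨Finset.mem_univ _,
            fixed_pair _ _ (hrV _ ⟨b1, rfl⟩) (hrV _ ⟨b2, rfl⟩) hb1 hb2 (Ne.symm hb21) _
              (hfixk b1 d _ (hpre d)) (hfixk b2 d _ (hpre d))⟩⟩)
          fun d d' h => hprei (congrArg Subtype.val h)) ?_
        rw [Nat.card_eq_fintype_card, Fintype.card_coe]
        exact ext_z_card
      have hr4 : Nat.card χ.range ≤ 4 := by
        refine le_of_le_of_eq (Nat.card_le_card_of_injective
          (β := (Finset.univ.filter fun σ : Perm (Fin 5) => InV σ))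
          (fun σ => ⟨σ.1, Finset.mem_filter.2 ⟨Finset.mem_univ _, hrV _ σ.2⟩⟩)
          fun σ σ' h => Subtype.ext (congrArg Subtype.val h :)) ?_
        rw [Nat.card_eq_fintype_card, Fintype.card_coe]
        exact inV_card
      have := Nat.mul_le_mul hk2 hr4
      omega
  let πG : G → Perm (Fin 5) := fun n => if h : n ∈ N then π0 ⟨n, h⟩ else 1
  have hπG : ∀ n (h : n ∈ N), πG n = π0 ⟨n, h⟩ := fun n h => dif_pos h
  exact ⟨
    { A := A
      S := P0
      hAS := hAT
      sq := hsq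
      uniq := hcu
      card_A := hA16
      val := fun f => val f
      val_mem := fun f => (val f).2
      val_surj := fun a ha => by
        obtain ⟨f, hf⟩ := hb.2 ⟨a, ha⟩
        exact ⟨ext f, congrArg Subtype.val hf⟩
      val_add := fun f g => congrArg Subtype.val (hadd f g)
      val_eq := fun f g => ⟨fun h => (hvaleq f g).1 (Subtype.ext h),
        fun h => congrArg Subtype.val ((hvaleq f g).2 h)⟩
      π := πG
      π_mul := fun m n hm hn' => by
        rw [hπG m hm, hπG n hn', hπG _ (mul_mem hm hn'), ← map_mul]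
        rfl
      π_conj := fun n hn' f => by rw [hπG n hn']; exact hconjval ⟨n, hn'⟩ f
      π_sign := fun n hn' => by rw [hπG n hn']; exact hπsign _
      π_surj := fun σ hσ => by
        obtain ⟨n, hn'⟩ := hπsurj σ hσ
        exact ⟨n, n.2, (hπG _ n.2).trans hn'⟩
      π_ker := fun n hn' h => by
        rw [hπG n hn'] at h
        exact hK0dec ⟨n, hn'⟩ ((hπker _).1 h)
      S_le := hT0N
      π_S := fun y hy => by rw [hπG y (hT0N hy)]; exact hπS y hy
      π_V := fun τ hτ => by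
        obtain ⟨y, hy, h⟩ := hπV τ hτ
        exact ⟨y, hy, (hπG y (hT0N hy)).trans h⟩
      three := h3 }, rfl⟩

end CfsgLib.Recog.AltEightThree
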