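import Mathlib

/-!
Owner: helper29. Computations in the permutation module of `A₅` over two elements: vectors are
functions on five points, taken modulo the all-one vector.
-/

set_option autoImplicit false
set_option maxRecDepth 8000

namespace CfsgLib.Recog.AltEightThree

open Equiv

/-- Vectors on five points. -/
abbrev Vec := Fin 5 → ZMod 2

/-- The unit vector. -/
def unit (i : Fin 5) : Vec := fun j => if j = i then 1 else 0

/-- Action of permutations on vectors. -/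
def act (σ : Perm (Fin 5)) (f : Vec) : Vec := fun i => f (σ⁻¹ i)

/-- Equality modulo the all-one vector. -/
def Eqv (f g : Vec) : Prop := g = f ∨ g = f + 1

instance (f g : Vec) : Decidable (Eqv f g) := inferInstanceAs (Decidable (_ ∨ _))

/-- The Sylow 2-subgroup fixing the last point. -/
def InV (σ : Perm (Fin 5)) : Prop := σ 4 = 4 ∧ σ * σ = 1 ∧ Perm.sign σ = 1

instance (σ : Perm (Fin 5)) : Decidable (InV σ) := inferInstanceAs (Decidable (_ ∧ _))

/-- Vectors of weight one or four. -/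
def W1 (f : Vec) : Prop := ∃ i, Eqv (unit i) f

instance (f : Vec) : Decidable (W1 f) := inferInstanceAs (Decidable (∃ _, _))

theorem act_one (f : Vec) : act 1 f = f := rfl

theorem act_mul (σ τ : Perm (Fin 5)) (f : Vec) : act (σ * τ) f = act σ (act τ f) := rfl

theorem act_add (σ : Perm (Fin 5)) (f g : Vec) : act σ (f + g) = act σ f + act σ g := rfl

theorem act_unit (σ : Perm (Fin 5)) (i : Fin 5) : act σ (unit i) = unit (σ i) := by
  funext j
  show (if σ⁻¹ j = i then (1 : ZMod 2) else 0) = if j = σ i then 1 else 0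
  simp only [Perm.inv_eq_iff_eq]

theorem eq_one_of_units : ∀ σ : Perm (Fin 5), (∀ i, Eqv (unit i) (unit (σ i))) → σ = 1 := by
  decide +kernel

theorem eq_one_of_act (σ : Perm (Fin 5)) (h : ∀ f, Eqv f (act σ f)) : σ = 1 :=
  eq_one_of_units σ fun i => act_unit σ i ▸ h (unit i)

theorem inV_commute : ∀ σ τ : Perm (Fin 5), InV σ → InV τ → σ * τ = τ * σ := by decide +kernel

theorem inV_mul : ∀ σ τ : Perm (Fin 5), InV σ → InV τ → InV (σ * τ) := by decide +kernel

theorem inV_conj_aux : ∀ σ τ : Perm (Fin 5), InV σ → σ ≠ 1 → InV τ → τ ≠ 1 →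
    ∃ ρ ∈ (Finset.univ : Finset (Perm (Fin 5))),
      Perm.sign ρ = 1 ∧ ρ 4 = 4 ∧ ρ * σ * ρ⁻¹ = τ := by decide +kernel

theorem inV_conj (σ τ : Perm (Fin 5)) (h1 : InV σ) (h2 : σ ≠ 1) (h3 : InV τ) (h4 : τ ≠ 1) :
    ∃ ρ : Perm (Fin 5), Perm.sign ρ = 1 ∧ ρ 4 = 4 ∧ ρ * σ * ρ⁻¹ = τ := by
  obtain ⟨ρ, -, hρ⟩ := inV_conj_aux σ τ h1 h2 h3 h4
  exact ⟨ρ, hρ⟩

theorem fixed_eq_image : ∀ τ : Perm (Fin 5), InV τ → τ ≠ 1 → ∀ f : Vec, Eqv f (act τ f) →
    ∃ g : Vec, Eqv f (act τ g + g) := by decide +kernel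

theorem fixed_four : ∀ τ : Perm (Fin 5), InV τ → τ ≠ 1 →
    (Finset.univ.filter fun f : Vec => Eqv f (act τ f)).card = 8 := by decide +kernel

theorem fixed_weight_one : ∀ τ : Perm (Fin 5), InV τ → τ ≠ 1 → ∀ f : Vec, W1 f →
    Eqv f (act τ f) → Eqv (unit 4) f := by decide +kernel

theorem fixed_two : ∀ f : Vec, (∀ τ : Perm (Fin 5), InV τ → Eqv f (act τ f)) →
    Eqv 0 f ∨ Eqv (unit 4) f := by decide +kernel

theorem weight_two : ∀ f : Vec, ¬ Eqv 0 f → ¬ W1 f → ∃ i j, i ≠ j ∧ Eqv (unit i + unit j) f := by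
  decide +kernel

theorem w1_act (σ : Perm (Fin 5)) (f : Vec) (h : W1 f) : W1 (act σ f) := by
  obtain ⟨i, rfl | rfl⟩ := h
  · exact ⟨σ i, Or.inl (act_unit σ i)⟩
  · refine ⟨σ i, Or.inr ?_⟩
    rw [act_add, act_unit]
    rfl

theorem w1_eqv : ∀ f g : Vec, Eqv f g → W1 f → W1 g := by decide +kernel

end CfsgLib.Recog.AltEightThree
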