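import Cfsg.Agent.Lib.Recog.AltEightThreeClasses.Tools
import Cfsg.Agent.Lib.Recog.AltEightThreeClasses.Vec

/-!
Owner: helper29. The configuration of an `A₅` acting on the permutation module, and fusion in it.
-/

set_option autoImplicit false

namespace CfsgLib.Recog.AltEightThree

open Subgroup Cfsg Equiv

universe u

variable {G : Type u} [Group G]

/-- Coordinates for `A` and the action of its normaliser on five points. -/
structure Model (G : Type u) [Group G] extends Ctx G where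
  card_A : Nat.card A = 16
  val : Vec → G
  val_mem : ∀ f, val f ∈ A
  val_surj : ∀ a ∈ A, ∃ f, val f = a
  val_add : ∀ f g, val (f + g) = val f * val g
  val_eq : ∀ f g, val f = val g ↔ Eqv f g
  π : G → Perm (Fin 5)
  π_mul : ∀ m n, m ∈ normalizer (A : Set G) → n ∈ normalizer (A : Set G) → π (m * n) = π m * π n
  π_conj : ∀ n ∈ normalizer (A : Set G), ∀ f, n * val f * n⁻¹ = val (act (π n) f)
  π_sign : ∀ n ∈ normalizer (A : Set G), Perm.sign (π n) = 1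
  π_surj : ∀ σ : Perm (Fin 5), Perm.sign σ = 1 → ∃ n ∈ normalizer (A : Set G), π n = σ
  π_ker : ∀ n ∈ normalizer (A : Set G), π n = 1 →
    ∃ o ∈ core (normalizer (A : Set G)), ∃ a ∈ A, n = o * a
  S_le : (S : Subgroup G) ≤ normalizer (A : Set G)
  π_S : ∀ s ∈ (S : Subgroup G), InV (π s)
  π_V : ∀ τ : Perm (Fin 5), InV τ → ∃ s ∈ (S : Subgroup G), π s = τ
  three : Nat.card {c : ConjClasses G // ∃ y ∈ c.carrier, orderOf y = 2} = 3

/-- The parity of the first four coordinates. -/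
def wsum (f : Vec) : ZMod 2 := f 0 + f 1 + f 2 + f 3

theorem wsum_eqv : ∀ f g : Vec, Eqv f g → wsum f = wsum g := by decide +kernel

theorem act_inv_cancel (σ : Perm (Fin 5)) (f : Vec) : act σ⁻¹ (act σ f) = f := by
  rw [← act_mul, inv_mul_cancel, act_one]

theorem wsum_act : ∀ σ : Perm (Fin 5), σ 4 = 4 → ∀ f : Vec, wsum (act σ f) = wsum f := by
  intro σ hσ f
  have hσ' : σ⁻¹ 4 = 4 := by rw [Perm.inv_eq_iff_eq, hσ]
  have h : ∀ g : Vec, wsum g = (∑ i, g i) + g 4 := by decide +kernel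
  rw [h, h]
  show (∑ i, f (σ⁻¹ i)) + f (σ⁻¹ 4) = _
  rw [hσ', Equiv.sum_comp σ⁻¹ f]

theorem eq_one_of_wsum : ∀ σ : Perm (Fin 5),
    (∀ f : Vec, wsum f = 0 → Eqv f (act σ f)) → σ = 1 := by decide +kernel

theorem exists_even_to : ∀ i : Fin 5, ∃ ρ ∈ (Finset.univ : Finset (Perm (Fin 5))),
    Perm.sign ρ = 1 ∧ ρ 4 = i := by decide +kernel

theorem exists_even_pair : ∀ i j : Fin 5, i ≠ j → ∃ ρ ∈ (Finset.univ : Finset (Perm (Fin 5))),
    Perm.sign ρ = 1 ∧ ρ 0 = i ∧ ρ 1 = j := by decide +kernel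

namespace Model

variable (M : Model G)

theorem val_zero : M.val 0 = 1 := by
  have h := M.val_add 0 0
  rw [add_zero] at h
  exact mul_eq_left.1 h.symm

/-- The point `i` as an element of `A`. -/
def x (i : Fin 5) : G := M.val (unit i)

theorem x_mem (i : Fin 5) : M.x i ∈ M.A := M.val_mem _

theorem conj_x {n : G} (hn : n ∈ M.N) (i : Fin 5) : n * M.x i * n⁻¹ = M.x (M.π n i) := by
  show n * M.val (unit i) * n⁻¹ = M.val (unit (M.π n i))
  rw [M.π_conj n hn, act_unit]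

theorem x_inj {i j : Fin 5} (h : M.x i = M.x j) : i = j := by
  have : ∀ i j : Fin 5, Eqv (unit i) (unit j) → i = j := by decide +kernel
  exact this i j ((M.val_eq _ _).1 h)

theorem x_ne_one (i : Fin 5) : M.x i ≠ 1 := by
  intro h
  have : ∀ i : Fin 5, ¬ Eqv (unit i) 0 := by decide +kernel
  exact this i ((M.val_eq _ _).1 (h.trans M.val_zero.symm))

theorem orderOf_x (i : Fin 5) : orderOf (M.x i) = 2 :=
  CfsgLib.Signalizer.orderOf_eq_two_of (M.x_ne_one i) (M.sq _ (M.x_mem i))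

theorem A_le_N : M.A ≤ M.N := le_normalizer

theorem π_eq_one {n : G} (hn : n ∈ M.N) (h : ∀ a ∈ M.A, n * a * n⁻¹ = a) : M.π n = 1 :=
  eq_one_of_act _ fun f => (M.val_eq _ _).1 (by rw [← M.π_conj n hn, h _ (M.val_mem f)])

theorem π_A {a : G} (ha : a ∈ M.A) : M.π a = 1 :=
  M.π_eq_one (M.A_le_N ha) fun b hb => by rw [M.comm ha hb, mul_inv_cancel_right]

theorem π_one : M.π 1 = 1 := M.π_A M.A.one_mem

theorem π_inv {n : G} (hn : n ∈ M.N) : M.π n⁻¹ = (M.π n)⁻¹ := by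
  refine eq_inv_of_mul_eq_one_left ?_
  rw [← M.π_mul _ _ (inv_mem hn) hn, inv_mul_cancel, M.π_one]

theorem π_conj_eq {m n : G} (hm : m ∈ M.N) (hn : n ∈ M.N) :
    M.π (m * n * m⁻¹) = M.π m * M.π n * (M.π m)⁻¹ := by
  rw [M.π_mul _ _ (mul_mem hm hn) (inv_mem hm), M.π_mul _ _ hm hn, M.π_inv hm]

theorem π_pow {n : G} (hn : n ∈ M.N) (k : ℕ) : M.π (n ^ k) = M.π n ^ k := by
  induction k with
  | zero => rw [pow_zero, pow_zero, M.π_one]
  | succ k ih => rw [pow_succ, M.π_mul _ _ (pow_mem hn k) hn, ih, pow_succ]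

theorem InV_one : InV (1 : Perm (Fin 5)) := ⟨rfl, mul_one 1, map_one _⟩

variable [Finite G]

theorem core_commute {o a : G} (ho : o ∈ core M.N) (ha : a ∈ M.A) : o * a * o⁻¹ = a := by
  have h1 : o * a * o⁻¹ * a⁻¹ ∈ M.A :=
    mul_mem ((mem_normalizer_iff.1 (AltEightThree.core_le M.N ho) a).1 ha) (inv_mem ha)
  have h2 : o * a * o⁻¹ * a⁻¹ ∈ core M.N := by
    rw [show o * a * o⁻¹ * a⁻¹ = o * (a * o⁻¹ * a⁻¹) by group]
    exact mul_mem ho ((mem_normalizer_iff.1 (le_normalizer_core M.N (M.A_le_N ha)) _).1 (inv_mem ho))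
  exact mul_inv_eq_one.1 (eq_one_of_odd M.isPGroup h1 (odd_orderOf_core h2))

theorem π_core {o : G} (ho : o ∈ core M.N) : M.π o = 1 :=
  M.π_eq_one (AltEightThree.core_le M.N ho) fun _ ha => M.core_commute ho ha

theorem commute_of_π {n a : G} (hn : n ∈ M.N) (h : M.π n = 1) (ha : a ∈ M.A) : n * a = a * n := by
  obtain ⟨f, rfl⟩ := M.val_surj a ha
  have := M.π_conj n hn f
  rw [h, act_one] at this
  exact mul_inv_eq_iff_eq_mul.1 this

/-- Every 2-subgroup containing `A` normalises it. -/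
theorem le_N {T : Subgroup G} (hT : IsPGroup 2 T) (hA : M.A ≤ T) : T ≤ M.N := fun _ ht =>
  M.eq_of_common hT hA fun _ ha => mul_mem (mul_mem ht (hA ha)) (inv_mem ht)

theorem mem_A {T : Subgroup G} (hT : IsPGroup 2 T) (hA : M.A ≤ T) {t : G} (ht : t ∈ T)
    (h : M.π t = 1) : t ∈ M.A := by
  obtain ⟨o, ho, a, ha, rfl⟩ := M.π_ker t (M.le_N hT hA ht) h
  have : o ∈ T := by
    rw [show o = o * a * a⁻¹ by group]; exact mul_mem ht (inv_mem (hA ha))
  rwa [eq_one_of_odd hT this (odd_orderOf_core ho), one_mul]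

theorem mem_A_S {t : G} (ht : t ∈ (M.S : Subgroup G)) (h : M.π t = 1) : t ∈ M.A :=
  M.mem_A M.S.2 M.hAS ht h

theorem π_ne_one {t : G} (ht : t ∈ (M.S : Subgroup G)) (h : t ∉ M.A) : M.π t ≠ 1 :=
  fun e => h (M.mem_A_S ht e)

/-- The involution in `S` above each element of `V`. -/
theorem exists_involution {τ : Perm (Fin 5)} (hτ : InV τ) (h1 : τ ≠ 1) :
    ∃ u ∈ (M.S : Subgroup G), M.π u = τ ∧ u * u = 1 ∧ u ∉ M.A := by
  obtain ⟨s, hs, hπ⟩ := M.π_V τ hτ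
  have hsN := M.S_le hs
  have h2 : s * s ∈ M.A := M.mem_A_S (mul_mem hs hs) (by rw [M.π_mul _ _ hsN hsN, hπ, hτ.2.1])
  obtain ⟨f, hf⟩ := M.val_surj _ h2
  have hfix : Eqv f (act τ f) := (M.val_eq _ _).1 (by
    rw [← hπ, ← M.π_conj s hsN, hf]; group)
  obtain ⟨g, hg⟩ := fixed_eq_image τ hτ h1 f hfix
  have hgm := M.val_mem g
  refine ⟨M.val g * s, mul_mem (M.hAS hgm) hs, ?_, ?_, fun h => h1 ?_⟩
  · rw [M.π_mul _ _ (M.A_le_N hgm) hsN, M.π_A hgm, one_mul, hπ]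
  · rw [show M.val g * s * (M.val g * s) = M.val g * (s * M.val g * s⁻¹) * (s * s) by group,
      M.π_conj s hsN, hπ, ← hf, (M.val_eq _ _).2 hg, ← M.val_add, ← M.val_add,
      ← M.val_zero, M.val_eq]
    refine Or.inl ?_
    have : ∀ a : ZMod 2, a + a = 0 := by decide
    funext i
    simp only [Pi.add_apply, Pi.zero_apply]
    rw [add_comm (g i) (act τ g i), this]
  · have hs' : s ∈ M.A := by
      rw [show s = (M.val g)⁻¹ * (M.val g * s) by group]; exact mul_mem (inv_mem hgm) h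
    rw [← hπ, M.π_A hs']

theorem inV_inv {σ : Perm (Fin 5)} (h : InV σ) : InV σ⁻¹ := by
  rwa [inv_eq_of_mul_eq_one_right h.2.1]

/-- The preimage of `V`. -/
def H : Subgroup G where
  carrier := {n | n ∈ M.N ∧ InV (M.π n)}
  one_mem' := ⟨one_mem _, by rw [M.π_one]; exact InV_one⟩
  mul_mem' := fun ha hb => ⟨mul_mem ha.1 hb.1, by
    rw [M.π_mul _ _ ha.1 hb.1]; exact inV_mul _ _ ha.2 hb.2⟩
  inv_mem' := fun ha => ⟨inv_mem ha.1, by rw [M.π_inv ha.1]; exact inV_inv ha.2⟩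

theorem S_le_H : (M.S : Subgroup G) ≤ M.H := fun _ hs => ⟨M.S_le hs, M.π_S _ hs⟩

theorem mul_self_conj {v : G} (hv : v ∈ M.N) (hv2 : v * v = 1) (g : Vec) :
    M.val g * v * M.val g = v * M.val (act (M.π v) g + g) := by
  have hvi : v⁻¹ = v := inv_eq_of_mul_eq_one_right hv2
  rw [M.val_add, ← M.π_conj v hv, hvi, show v * (v * M.val g * v * M.val g) =
    (v * v) * M.val g * v * M.val g by group, hv2, one_mul]

theorem outer_fix {v a : G} (hv : v ∈ (M.S : Subgroup G)) (hv2 : v * v = 1) {f : Vec}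
    (hf : M.val f = a) (h : v * a * (v * a) = 1) : Eqv f (act (M.π v) f) := by
  have hvi : v⁻¹ = v := inv_eq_of_mul_eq_one_right hv2
  refine (M.val_eq _ _).1 ?_
  rw [← M.π_conj v (M.S_le hv), hvi]
  subst hf
  have h' : v * M.val f * v * M.val f = 1 := by rw [← h]; group
  rw [mul_eq_one_iff_eq_inv.1 h', M.inv_eq (M.val_mem f)]

/-- All involutions of `S` outside `A` are conjugate under the stabiliser of the last point. -/
theorem exists_conj_outer {u v : G} (hu : u ∈ (M.S : Subgroup G)) (huA : u ∉ M.A) (hu2 : u * u = 1)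
    (hv : v ∈ (M.S : Subgroup G)) (hvA : v ∉ M.A) (hv2 : v * v = 1) :
    ∃ n ∈ M.N, n * u * n⁻¹ = v := by
  have hτ := M.π_S v hv
  have hτ1 := M.π_ne_one hv hvA
  obtain ⟨ρ, hρ, -, hρσ⟩ := inV_conj _ _ (M.π_S u hu) (M.π_ne_one hu huA) hτ hτ1
  obtain ⟨n, hn, rfl⟩ := M.π_surj ρ hρ
  have huN := M.S_le hu
  have hu'π : M.π (n * u * n⁻¹) = M.π v := by rw [M.π_conj_eq hn huN, hρσ]
  have hu'H : zpowers (n * u * n⁻¹) ≤ M.H :=
    zpowers_le.2 ⟨mul_mem (mul_mem hn huN) (inv_mem hn), by rw [hu'π]; exact hτ⟩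
  have hu'2 : (n * u * n⁻¹) ^ 2 = 1 := by rw [conj_pow, pow_two, hu2, mul_one, mul_inv_cancel]
  have : Fact (Nat.Prime 2) := ⟨Nat.prime_two⟩
  have hSi : ¬ 2 ∣ (M.S : Subgroup G).relIndex M.H := fun h => M.S.not_dvd_index
    (h.trans (relIndex_dvd_index_of_le M.S_le_H))
  obtain ⟨c, hc, hcS⟩ := CfsgLib.Transfer.exists_conj_le M.S.2 hSi hu'H
    (IsPGroup.of_card_dvd_pow (n := 1) (by
      rw [Nat.card_zpowers, pow_one]; exact orderOf_dvd_of_pow_eq_one hu'2))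
  have hw := hcS _ (mem_zpowers _)
  set w := c⁻¹ * (n * u * n⁻¹) * c with hwdef
  have hwN := M.S_le hw
  have hwπ : M.π w = M.π v := by
    have h0 : w = c⁻¹ * (n * u * n⁻¹) * c⁻¹⁻¹ := by rw [inv_inv]
    rw [h0, M.π_conj_eq (inv_mem hc.1) (mul_mem (mul_mem hn huN) (inv_mem hn)), hu'π, M.π_inv hc.1,
      inv_inv, inV_commute _ _ (inV_inv hc.2) hτ, inv_mul_cancel_right]
  have hw2 : w * w = 1 := by
    rw [hwdef, show c⁻¹ * (n * u * n⁻¹) * c * (c⁻¹ * (n * u * n⁻¹) * c) =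
      c⁻¹ * n * (u * u) * n⁻¹ * c by group, hu2]
    group
  have hvN := M.S_le hv
  have hd : v⁻¹ * w ∈ M.A := M.mem_A_S (mul_mem (inv_mem hv) hw) (by
    rw [M.π_mul _ _ (inv_mem hvN) hwN, M.π_inv hvN, hwπ, inv_mul_cancel])
  obtain ⟨f, hf⟩ := M.val_surj _ hd
  have hwe : w = v * M.val f := by rw [hf, mul_inv_cancel_left]
  obtain ⟨g, hg⟩ := fixed_eq_image _ hτ hτ1 f
    (M.outer_fix hv hv2 rfl (by rwa [← hwe]))
  have hgm := M.val_mem g
  refine ⟨M.val g * (c⁻¹ * n), mul_mem (M.A_le_N hgm) (mul_mem (inv_mem hc.1) hn), ?_⟩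
  rw [show M.val g * (c⁻¹ * n) * u * (M.val g * (c⁻¹ * n))⁻¹ = M.val g * w * (M.val g)⁻¹ by
      rw [hwdef]; group,
    M.inv_eq hgm, hwe, (M.val_eq _ _).2 hg, ← M.mul_self_conj hvN hv2,
    show M.val g * (M.val g * v * M.val g) * M.val g =
      (M.val g * M.val g) * v * (M.val g * M.val g) by group, M.sq _ hgm, one_mul, mul_one]

/-- Fusion within `A` under `G` preserves weight one. -/
theorem conj_w1 {a g : G} (ha : a ∈ M.A) (hga : g * a * g⁻¹ ∈ M.A) {f : Vec} (hf : M.val f = a)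
    (hw : W1 f) : ∃ f', W1 f' ∧ M.val f' = g * a * g⁻¹ := by
  obtain ⟨n, hn, -, e⟩ := M.fus (X := ⊤) le_top ha (mem_top g) hga
  refine ⟨act (M.π n) f, w1_act _ _ hw, ?_⟩
  rw [← e, ← M.π_conj n hn, hf]

/-- Every nontrivial element of `A` is conjugate to one of two. -/
theorem conj_two {a : G} (ha : a ∈ M.A) (h1 : a ≠ 1) :
    IsConj (M.x 4) a ∨ IsConj (M.x 0 * M.x 1) a := by
  obtain ⟨f, rfl⟩ := M.val_surj a ha
  by_cases hw : W1 f
  · obtain ⟨i, hi⟩ := hw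
    obtain ⟨ρ, -, hρ, h4⟩ := exists_even_to i
    obtain ⟨n, hn, rfl⟩ := M.π_surj ρ hρ
    refine Or.inl (isConj_iff.2 ⟨n, ?_⟩)
    rw [M.conj_x hn, h4, ← (M.val_eq _ _).2 hi]
    rfl
  · obtain ⟨i, j, hij, e⟩ := weight_two f
      (fun h => h1 (by rw [← (M.val_eq _ _).2 h, M.val_zero])) hw
    obtain ⟨ρ, -, hρ, h0, h1'⟩ := exists_even_pair i j hij
    obtain ⟨n, hn, rfl⟩ := M.π_surj ρ hρ
    refine Or.inr (isConj_iff.2 ⟨n, ?_⟩)
    rw [← (M.val_eq _ _).2 e, M.val_add, show n * (M.x 0 * M.x 1) * n⁻¹ =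
      (n * M.x 0 * n⁻¹) * (n * M.x 1 * n⁻¹) by group, M.conj_x hn, M.conj_x hn, h0, h1']
    rfl

/-- With three classes of involutions `A` is strongly closed in `S`. -/
theorem closed (a : G) (ha : a ∈ M.A) (g : G) (hg : g * a * g⁻¹ ∈ (M.S : Subgroup G)) :
    g * a * g⁻¹ ∈ M.A := by
  classical
  by_contra hout
  have : Fact (Nat.Prime 2) := ⟨Nat.prime_two⟩
  have hs2 : g * a * g⁻¹ * (g * a * g⁻¹) = 1 := by
    rw [show g * a * g⁻¹ * (g * a * g⁻¹) = g * (a * a) * g⁻¹ by group, M.sq a ha]; group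
  have ha1 : a ≠ 1 := by
    rintro rfl
    rw [mul_one, mul_inv_cancel] at hout
    exact hout M.A.one_mem
  have key : ∀ y : G, orderOf y = 2 → IsConj (M.x 4) y ∨ IsConj (M.x 0 * M.x 1) y := by
    intro y hy
    obtain ⟨m, -, hm⟩ := CfsgLib.Transfer.exists_conj_le (N := ⊤) M.S.2
      (by rw [relIndex_top_right]; exact M.S.not_dvd_index) (le_top : zpowers y ≤ ⊤)
      (IsPGroup.of_card_dvd_pow (n := 1) (by rw [Nat.card_zpowers, hy, pow_one]))
    have hyS := hm y (mem_zpowers y)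
    have hconj : IsConj (m⁻¹ * y * m) y := isConj_iff.2 ⟨m, by group⟩
    have h2 : m⁻¹ * y * m * (m⁻¹ * y * m) = 1 := by
      rw [show m⁻¹ * y * m * (m⁻¹ * y * m) = m⁻¹ * (y * y) * m by group,
        CfsgLib.Signalizer.involution_sq hy]
      group
    by_cases hA : m⁻¹ * y * m ∈ M.A
    · have h1 : m⁻¹ * y * m ≠ 1 := fun h => CfsgLib.Signalizer.involution_ne_one hy (by
        rw [show y = m * (m⁻¹ * y * m) * m⁻¹ by group, h]; group)
      exact (M.conj_two hA h1).imp (fun h => h.trans hconj) (fun h => h.trans hconj)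
    · obtain ⟨n, -, hn⟩ := M.exists_conj_outer hg hout hs2 hyS hA h2
      have h' : IsConj a y :=
        ((isConj_iff.2 ⟨g, rfl⟩ : IsConj a (g * a * g⁻¹)).trans (isConj_iff.2 ⟨n, hn⟩)).trans hconj
      exact (M.conj_two ha ha1).imp (fun h => h.trans h') (fun h => h.trans h')
  let q : Set (ConjClasses G) := {ConjClasses.mk (M.x 4), ConjClasses.mk (M.x 0 * M.x 1)}
  have hle : Nat.card {c : ConjClasses G // ∃ y ∈ c.carrier, orderOf y = 2} ≤ Nat.card q := by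
    refine Nat.card_le_card_of_injective (fun c => ⟨c.1, ?_⟩)
      (fun c c' h => Subtype.ext (Subtype.ext_iff.1 h :))
    obtain ⟨y, hy, ho⟩ := c.2
    rw [← ConjClasses.mem_carrier_iff_mk_eq.1 hy]
    exact (key y ho).imp (fun h => (ConjClasses.mk_eq_mk_iff_isConj.2 h).symm)
      (fun h => (ConjClasses.mk_eq_mk_iff_isConj.2 h).symm)
  have hq : Nat.card q ≤ 2 := by
    rw [Nat.card_coe_set_eq]
    exact (Set.ncard_insert_le _ _).trans (by rw [Set.ncard_singleton])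
  rw [M.three] at hle
  omega

theorem mem_of_conj {T : Subgroup G} (hT : IsPGroup 2 T) (hA : M.A ≤ T) {a g : G} (ha : a ∈ M.A)
    (hg : g * a * g⁻¹ ∈ T) : g * a * g⁻¹ ∈ M.A := by
  have : Fact (Nat.Prime 2) := ⟨Nat.prime_two⟩
  obtain ⟨P, hP⟩ := hT.exists_le_sylow
  obtain ⟨h, rfl⟩ := MulAction.exists_smul_eq G M.S P
  have hS : ∀ x ∈ T, h⁻¹ * x * h ∈ (M.S : Subgroup G) := by
    intro x hx
    have := hP hx
    rw [Sylow.coe_subgroup_smul] at this
    obtain ⟨s, hs, e⟩ := this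
    have e' : h * s * h⁻¹ = x := e
    rw [← e', show h⁻¹ * (h * s * h⁻¹) * h = s by group]
    exact hs
  have hN : h⁻¹ ∈ M.N := M.eq_of_common M.S.2 M.hAS fun b hb => by
    simpa using hS b (hA hb)
  have h1 : (h⁻¹ * g) * a * (h⁻¹ * g)⁻¹ ∈ M.A := M.closed a ha _ (by
    rw [show (h⁻¹ * g) * a * (h⁻¹ * g)⁻¹ = h⁻¹ * (g * a * g⁻¹) * h by group]
    exact hS _ hg)
  refine (mem_normalizer_iff.1 hN _).2 ?_
  rwa [show h⁻¹ * (g * a * g⁻¹) * h⁻¹⁻¹ = (h⁻¹ * g) * a * (h⁻¹ * g)⁻¹ by group]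

/-- The vectors of even weight on the first four points. -/
def W : Subgroup G where
  carrier := {a | ∃ f, wsum f = 0 ∧ M.val f = a}
  one_mem' := ⟨0, by decide, M.val_zero⟩
  mul_mem' := by
    rintro _ _ ⟨f, hf, rfl⟩ ⟨g, hg, rfl⟩
    refine ⟨f + g, ?_, M.val_add f g⟩
    simp only [wsum, Pi.add_apply] at hf hg ⊢
    linear_combination hf + hg
  inv_mem' := by
    rintro _ ⟨f, hf, rfl⟩
    exact ⟨f, hf, (M.inv_eq (M.val_mem f)).symm⟩

theorem W_le : M.W ≤ M.A := by rintro _ ⟨f, -, rfl⟩; exact M.val_mem f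

theorem mem_W_iff {f : Vec} : M.val f ∈ M.W ↔ wsum f = 0 := by
  refine ⟨fun ⟨g, hg, e⟩ => ?_, fun h => ⟨f, h, rfl⟩⟩
  rw [← wsum_eqv g f ((M.val_eq _ _).1 e), hg]

theorem x4_mem_W : M.x 4 ∈ M.W := M.mem_W_iff.2 (by decide)

theorem normalizer_W {n : G} (hn : n ∈ M.N) (h4 : M.π n 4 = 4) :
    n ∈ normalizer (M.W : Set G) := by
  refine CfsgLib.Transfer.map_conj_eq_self_iff.1 (eq_of_le_of_card_ge ?_ ?_)
  · rintro _ ⟨_, ⟨f, hf, rfl⟩, rfl⟩
    exact ⟨_, (wsum_act _ h4 f).trans hf, (M.π_conj n hn f).symm⟩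
  · rw [CfsgLib.Transfer.card_map_conj]

theorem fix_four {n : G} (hn : n ∈ M.N) (hc : n * M.x 4 = M.x 4 * n) : M.π n 4 = 4 :=
  M.x_inj (by rw [← M.conj_x hn, hc, mul_inv_cancel_right])

/-- The centraliser of `W` is covered. -/
theorem cov_W : Cov M.N (centralizer (M.W : Set G)) := by
  have : Fact (Nat.Prime 2) := ⟨Nat.prime_two⟩
  set X := centralizer (M.W : Set G) with hXdef
  have hπ : ∀ n ∈ X, n ∈ M.N → M.π n = 1 := fun n hn hnN =>
    eq_one_of_wsum _ fun f hf => (M.val_eq _ _).1 (by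
      rw [← M.π_conj n hnN, ← mem_centralizer_iff.1 hn _ (M.mem_W_iff.2 hf), mul_inv_cancel_right])
  obtain ⟨T, hAT, hTX, hT, hTi⟩ :=
    CfsgLib.Transfer.exists_sylow_of_le (M.le_centralizer' M.W_le) M.isPGroup
  have hTA : T = M.A :=
    le_antisymm (fun t ht => M.mem_A hT hAT ht (hπ t (hTX ht) (M.le_N hT hAT ht))) hAT
  subst hTA
  intro x hx
  obtain ⟨o, ho, t, ht, e⟩ := exists_core_mul_sylow hTX hT hTi
    (fun n hn hnN t ht => M.commute_of_π hnN (hπ n hn hnN) ht) x hx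
  exact ⟨o, ho, t, M.A_le_N ht, hTX ht, e⟩

end Model

end CfsgLib.Recog.AltEightThree
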