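import Cfsg.Agent.Lib.Recog.AltEightThreeClasses.Point

/-!
Owner: helper29. The centraliser of every involution of `A` is covered.
-/

set_option autoImplicit false

namespace CfsgLib.Recog.AltEightThree

open Subgroup Cfsg Equiv

universe u

theorem pair_stable : ∀ σ : Perm (Fin 5), Eqv (unit 0 + unit 1) (act σ (unit 0 + unit 1)) →
    σ 0 = 0 ∧ σ 1 = 1 ∨ σ 0 = 1 ∧ σ 1 = 0 := by decide +kernel

theorem swap_sq : ∀ σ : Perm (Fin 5), Perm.sign σ = 1 → σ 0 = 1 → σ 1 = 0 → σ * σ = 1 := by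
  decide +kernel

theorem pair_two : ∀ σ : Perm (Fin 5), Perm.sign σ = 1 →
    (σ 0 = 0 ∧ σ 1 = 1 ∨ σ 0 = 1 ∧ σ 1 = 0) → σ ^ 8 = 1 →
    (σ * (swap 0 1 * swap 2 3)) ^ 8 = 1 → σ = 1 ∨ σ = swap 0 1 * swap 2 3 := by decide +kernel

theorem tau_facts : InV (swap (0 : Fin 5) 1 * swap 2 3) ∧ swap (0 : Fin 5) 1 * swap 2 3 ≠ 1 ∧
    Eqv (unit 0 + unit 1) (act (swap (0 : Fin 5) 1 * swap 2 3) (unit 0 + unit 1)) := by
  decide +kernel

theorem pow_eight {k : ℕ} {σ : Perm (Fin 5)} (h : σ ^ 2 ^ k = 1) : σ ^ 8 = 1 := by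
  refine orderOf_dvd_iff_pow_eq_one.1 ?_
  have h1 : orderOf σ ∣ 8 * 15 := by
    have := orderOf_dvd_card (x := σ)
    rwa [Fintype.card_perm, Fintype.card_fin] at this
  exact ((Nat.Coprime.pow_left k (by norm_num : Nat.Coprime 2 15)).of_dvd
    (orderOf_dvd_of_pow_eq_one h) dvd_rfl).dvd_of_dvd_mul_right h1

variable {G : Type u} [Group G]

theorem map_centralizer_singleton (n a : G) :
    (centralizer ({a} : Set G)).map (MulAut.conj n).toMonoidHom =
      centralizer ({n * a * n⁻¹} : Set G) := by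
  ext x
  rw [CfsgLib.Transfer.mem_map_conj, mem_centralizer_singleton_iff, mem_centralizer_singleton_iff]
  refine ⟨fun h => ?_, fun h => ?_⟩
  · calc x * (n * a * n⁻¹) = n * (n⁻¹ * x * n * a) * n⁻¹ := by group
      _ = n * (a * (n⁻¹ * x * n)) * n⁻¹ := by rw [h]
      _ = n * a * n⁻¹ * x := by group
  · calc n⁻¹ * x * n * a = n⁻¹ * (x * (n * a * n⁻¹)) * n := by group
      _ = n⁻¹ * (n * a * n⁻¹ * x) * n := by rw [h]
      _ = a * (n⁻¹ * x * n) := by group

namespace Model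

variable (M : Model G) [Finite G]

theorem cov_x (i : Fin 5) : Cov M.N (centralizer ({M.x i} : Set G)) := by
  obtain ⟨ρ, -, hρ, h4⟩ := exists_even_to i
  obtain ⟨n, hn, rfl⟩ := M.π_surj ρ hρ
  rw [← h4, ← M.conj_x hn, ← map_centralizer_singleton]
  exact M.cov_point.map_conj hn

theorem cov_pair : Cov M.N (centralizer ({M.x 0 * M.x 1} : Set G)) := by
  have : Fact (Nat.Prime 2) := ⟨Nat.prime_two⟩
  set y := M.x 0 * M.x 1 with hy
  have hyv : y = M.val (unit 0 + unit 1) := (M.val_add _ _).symm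
  have hyA : y ∈ M.A := mul_mem (M.x_mem 0) (M.x_mem 1)
  set X := centralizer ({y} : Set G) with hXdef
  have hAX : M.A ≤ X := M.le_centralizer hyA
  have hπX : ∀ n ∈ M.N, n ∈ X → (M.π n 0 = 0 ∧ M.π n 1 = 1 ∨ M.π n 0 = 1 ∧ M.π n 1 = 0) :=
    fun n hn hnX => pair_stable _ ((M.val_eq _ _).1 (by
      rw [← M.π_conj n hn, ← hyv, mem_centralizer_singleton_iff.1 hnX, mul_inv_cancel_right]))
  obtain ⟨hτ, hτ1, hτy⟩ := tau_facts
  obtain ⟨u, hu, hπu, hu2, huA⟩ := M.exists_involution hτ hτ1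
  have huX : u ∈ X := mem_centralizer_singleton_iff.2 (mul_inv_eq_iff_eq_mul.1 (by
    rw [hyv, M.π_conj u (M.S_le hu), hπu]; exact ((M.val_eq _ _).2 hτy).symm))
  obtain ⟨T, hle, hTX, hT, hTi⟩ := CfsgLib.Transfer.exists_sylow_of_le
    (sup_le hAX (zpowers_le.2 huX)) (M.S.2.to_le (sup_le M.hAS (zpowers_le.2 hu)))
  have hAT : M.A ≤ T := le_sup_left.trans hle
  have huT : u ∈ T := hle (mem_sup_right (mem_zpowers u))
  have hTN := M.le_N hT hAT
  have h8 : ∀ t ∈ T, M.π t ^ 8 = 1 := by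
    intro t ht
    obtain ⟨k, hk⟩ := IsPGroup.iff_orderOf.1 hT ⟨t, ht⟩
    rw [Subgroup.orderOf_mk] at hk
    exact pow_eight (k := k) (by rw [← M.π_pow (hTN ht), ← hk, pow_orderOf_eq_one, M.π_one])
  have hsplit : ∀ t ∈ T, t ∈ M.A ∨ t * u ∈ M.A := by
    intro t ht
    have h2 := h8 _ (mul_mem ht huT)
    rw [M.π_mul _ _ (hTN ht) (hTN huT), hπu] at h2
    rcases pair_two _ (M.π_sign t (hTN ht)) (hπX t (hTN ht) (hTX ht)) (h8 t ht) h2 with h | h
    · exact Or.inl (M.mem_A hT hAT ht h)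
    · refine Or.inr (M.mem_A hT hAT (mul_mem ht huT) ?_)
      rw [M.π_mul _ _ (hTN ht) (hTN huT), hπu, h, hτ.2.1]
  have hQi : M.A.relIndex T = 2 := by
    refine relIndex_eq_two_iff.2 ⟨u, huT, fun b hb => ?_⟩
    rcases hsplit b hb with h | h
    · exact Or.inr ⟨h, fun h' => huA ((mul_mem_cancel_left h).1 h')⟩
    · exact Or.inl ⟨h, fun h' => huA ((mul_mem_cancel_left h').1 h)⟩
  obtain ⟨X1, hX1le, hX1n, hX1s, huX1, -, hX1i, hX1mem⟩ :=
    transfer_in hTX hT hTi hQi huT hu2 (by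
      intro g _ _ h
      have := M.closed _ h g⁻¹ (by rwa [show g⁻¹ * (g * u * g⁻¹) * g⁻¹⁻¹ = u by group])
      rw [show g⁻¹ * (g * u * g⁻¹) * g⁻¹⁻¹ = u by group] at this
      exact huA this)
  have hAX1 : M.A ≤ X1 := fun a ha =>
    hX1mem a (hAX ha) (M.sq a ha) fun g _ hg => M.mem_of_conj hT hAT ha hg
  have hinf : T ⊓ X1 = M.A := by
    refine le_antisymm (fun t ht => ?_) (le_inf hAT hAX1)
    refine (hsplit t ht.1).resolve_right fun h => huX1 ?_
    exact (Subgroup.mul_mem_cancel_left X1 ht.2).1 (hAX1 h)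
  rw [hinf] at hX1i
  have hfix : ∀ n ∈ M.N, n ∈ X1 → M.π n 0 = 0 := by
    intro n hn hnX1
    rcases hπX n hn (hX1le hnX1) with h | ⟨h0, h1⟩
    · exact h.1
    · exfalso
      obtain ⟨e, m, hm, hnm⟩ := Nat.exists_eq_two_pow_mul_odd (orderOf_pos n).ne'
      have hp : IsPGroup 2 (zpowers (n ^ m)) := IsPGroup.of_card_dvd_pow (n := e) (by
        rw [Nat.card_zpowers]
        refine orderOf_dvd_of_pow_eq_one ?_
        rw [← pow_mul, mul_comm, ← hnm, pow_orderOf_eq_one])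
      have hle' : M.A ⊔ zpowers (n ^ m) ≤ X1 := sup_le hAX1 (zpowers_le.2 (pow_mem hnX1 m))
      have hp' : IsPGroup 2 (M.A ⊔ zpowers (n ^ m) : Subgroup G) :=
        M.isPGroup.to_sup_of_normal_left' hp (zpowers_le.2 (pow_mem hn m))
      have heq := CfsgLib.Transfer.eq_sylow_of_le
        (P := (M.isPGroup.comap_subtype (K := X1)).toSylow hX1i)
        (hp'.comap_subtype (K := X1)) (fun z hz => mem_sup_left hz)
      have hmem : n ^ m ∈ M.A := by
        have : (⟨n ^ m, pow_mem hnX1 m⟩ : X1) ∈ (M.A ⊔ zpowers (n ^ m)).subgroupOf X1 :=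
          mem_subgroupOf.2 (mem_sup_right (mem_zpowers _))
        rw [← comap_subtype, heq] at this
        exact this
      have := M.π_A hmem
      rw [M.π_pow hn] at this
      obtain ⟨k, rfl⟩ := hm
      rw [pow_succ, pow_mul, pow_two, swap_sq _ (M.π_sign n hn) h0 h1, one_pow, one_mul] at this
      rw [this] at h0
      exact absurd h0 (by decide)
  have hz := zstar_in hAX1 M.isPGroup hX1i (M.x_mem 0) (M.orderOf_x 0) (by
    intro g hg hgA
    obtain ⟨n, hn, hnX, e⟩ := M.fus hAX1 (M.x_mem 0) hg hgA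
    rw [← e, M.conj_x hn, hfix n hn hnX])
  set W : Subgroup G := closure ({M.x 0, y} : Set G) with hW
  have hWA : W ≤ M.A := (closure_le _).2 (Set.pair_subset (M.x_mem 0) hyA)
  have hcW : ∀ c ∈ X, c * M.x 0 = M.x 0 * c → c ∈ centralizer (W : Set G) := by
    intro c hc h
    rw [hW, centralizer_closure, mem_centralizer_iff]
    rintro z (rfl | rfl)
    · exact h.symm
    · exact (mem_centralizer_singleton_iff.1 hc).symm
  have hcov : Cov M.N (centralizer (W : Set G)) :=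
    M.cov_mono (W := zpowers (M.x 0)) (zpowers_le.2 (subset_closure (by simp))) hWA
      (by rw [centralizer_zpowers]; exact M.cov_x 0)
  have hCX : centralizer (W : Set G) ≤ X := fun c hc =>
    mem_centralizer_singleton_iff.2 (mem_centralizer_iff.1 hc y (subset_closure (by simp))).symm
  refine Cov.of_two ((AltEightThree.core_le _).trans hCX) (odd_core _) ?_ ?_
  · intro n hn
    refine normalizer_le_normalizer_core _
      (CfsgLib.Transfer.normalizer_le_normalizer_centralizer _ ?_)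
    refine CfsgLib.Transfer.map_conj_eq_self_iff.1 (eq_of_le_of_card_ge ?_ ?_)
    · rw [hW, MonoidHom.map_closure, closure_le]
      rintro _ ⟨z, (rfl | rfl), rfl⟩
      · show n * M.x 0 * n⁻¹ ∈ Subgroup.closure _
        rw [M.conj_x hn.2]
        rcases hπX n hn.2 hn.1 with ⟨h, -⟩ | ⟨h, -⟩ <;> rw [h]
        · exact subset_closure (by simp)
        · rw [show M.x 1 = M.x 0 * y by rw [hy, ← mul_assoc, M.sq _ (M.x_mem 0), one_mul]]
          exact mul_mem (subset_closure (by simp)) (subset_closure (by simp))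
      · show n * y * n⁻¹ ∈ Subgroup.closure _
        rw [mem_centralizer_singleton_iff.1 hn.1, mul_inv_cancel_right]
        exact subset_closure (by simp)
    · rw [CfsgLib.Transfer.card_map_conj]
  have hcore : core X1 ≤ core X := le_core ((AltEightThree.core_le X1).trans hX1le)
    (hX1n.trans (normalizer_le_normalizer_core X1)) (odd_core _)
  have key : ∀ g ∈ X1, ∃ o ∈ core X, ∃ k ∈ core (centralizer (W : Set G)),
      ∃ n ∈ M.N, n ∈ X ∧ g = o * k * n := by
    intro g hg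
    obtain ⟨o, ho, c, hc, hcx, rfl⟩ := hz g hg
    obtain ⟨k, hk, n, hn, hnW, rfl⟩ := hcov c (hcW c (hX1le hc) hcx)
    exact ⟨o, hcore ho, k, hk, n, hn, hCX hnW, (mul_assoc _ _ _).symm⟩
  intro g hg
  rcases hX1s g hg with h | h
  · exact key g h
  · obtain ⟨o, ho, k, hk, n, hn, hnX, e⟩ := key _ h
    refine ⟨o, ho, k, hk, n * u, mul_mem hn (M.S_le hu), mul_mem hnX huX, ?_⟩
    rw [← mul_assoc, ← e, mul_assoc, hu2, mul_one]

/-- The centraliser of every involution of `A` is covered. -/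
theorem cov {a : G} (ha : a ∈ M.A) (h1 : a ≠ 1) : Cov M.N (centralizer ({a} : Set G)) := by
  obtain ⟨f, rfl⟩ := M.val_surj a ha
  by_cases hw : W1 f
  · obtain ⟨i, hi⟩ := hw
    rw [← (M.val_eq _ _).2 hi]
    exact M.cov_x i
  · obtain ⟨i, j, hij, e⟩ := weight_two f
      (fun h => h1 (by rw [← (M.val_eq _ _).2 h, M.val_zero])) hw
    obtain ⟨ρ, -, hρ, h0, h1'⟩ := exists_even_pair i j hij
    obtain ⟨n, hn, rfl⟩ := M.π_surj ρ hρ
    have hc : M.val f = n * (M.x 0 * M.x 1) * n⁻¹ := by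
      rw [← (M.val_eq _ _).2 e, M.val_add, show n * (M.x 0 * M.x 1) * n⁻¹ =
        (n * M.x 0 * n⁻¹) * (n * M.x 1 * n⁻¹) by group, M.conj_x hn, M.conj_x hn, h0, h1']
      rfl
    rw [hc, ← map_centralizer_singleton]
    exact M.cov_pair.map_conj hn

end Model

end CfsgLib.Recog.AltEightThree
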