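import Cfsg.Agent.Lib.Recog.AltEightThreeClasses.Tools
import Cfsg.Agent.S0217

/-!
Owner: helper29. Groups with an elementary abelian Sylow 2-subgroup on which its normaliser acts
semiregularly, having two classes of involutions, are covered by the odd core and that normaliser.
-/

set_option autoImplicit false

namespace CfsgLib.Recog.AltEightThree

open Subgroup Cfsg

universe u

variable {K : Type u} [Group K] [Finite K]

theorem semiregular_cover (P : Sylow 2 K) (hexp : ∀ f ∈ (P : Subgroup K), f * f = 1)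
    (hcard : 8 ≤ Nat.card (P : Subgroup K))
    (hsemi : ∀ n ∈ normalizer ((P : Subgroup K) : Set K), Odd (orderOf n) →
      ∀ f ∈ (P : Subgroup K), f ≠ 1 → n * f * n⁻¹ = f →
        ∀ f' ∈ (P : Subgroup K), n * f' * n⁻¹ = f')
    {a b : K} (ha : a ∈ (P : Subgroup K)) (ha1 : a ≠ 1) (hb : b ∈ (P : Subgroup K)) (hb1 : b ≠ 1)
    (hab : ¬ IsConj a b) :
    ∀ x : K, ∃ o ∈ oddCore K, ∃ n ∈ normalizer ((P : Subgroup K) : Set K), x = o * n := by
  classical
  have : Fact (Nat.Prime 2) := ⟨Nat.prime_two⟩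
  set F : Subgroup K := (P : Subgroup K) with hF
  have hinv : ∀ f ∈ F, f⁻¹ = f := fun f hf => inv_eq_of_mul_eq_one_right (hexp f hf)
  have hcomm : ∀ f ∈ F, ∀ g ∈ F, f * g = g * f := by
    intro f hf g hg
    have h := hinv _ (mul_mem hf hg)
    rw [mul_inv_rev, hinv f hf, hinv g hg] at h
    exact h.symm
  have hle : ∀ f ∈ F, F ≤ centralizer ({f} : Set K) := fun f hf g hg =>
    mem_centralizer_singleton_iff.2 (hcomm g hg f hf)
  have semi : ∀ f ∈ F, f ≠ 1 → ∀ n ∈ normalizer (F : Set K), n * f = f * n →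
      ∀ t ∈ F, n * t = t * n := by
    intro f hf hf1 n hn hnf t ht
    obtain ⟨e, m, hm, hnm⟩ := Nat.exists_eq_two_pow_mul_odd (orderOf_pos n).ne'
    have h1 : n ^ m ∈ F := by
      have hz : zpowers (n ^ m) ≤ normalizer (F : Set K) := zpowers_le.2 (pow_mem hn m)
      have hp : IsPGroup 2 (zpowers (n ^ m)) := IsPGroup.of_card_dvd_pow (n := e) (by
        rw [Nat.card_zpowers]
        refine orderOf_dvd_of_pow_eq_one ?_
        rw [← pow_mul, mul_comm, ← hnm, pow_orderOf_eq_one])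
      have := CfsgLib.Transfer.eq_sylow_of_le (P := P) (hp.to_sup_of_normal_right' P.2 hz)
        le_sup_right
      rw [← hF] at this
      exact this ▸ mem_sup_left (mem_zpowers _)
    have hodd : Odd (orderOf (n ^ 2 ^ e)) := by
      refine hm.of_dvd_nat (orderOf_dvd_of_pow_eq_one ?_)
      rw [← pow_mul, ← hnm, pow_orderOf_eq_one]
    have h2 : n ^ 2 ^ e * t = t * n ^ 2 ^ e := mul_inv_eq_iff_eq_mul.1
      (hsemi _ (pow_mem hn _) hodd f hf hf1
        (mul_inv_eq_iff_eq_mul.2 ((show Commute n f from hnf).pow_left _).eq) t ht)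
    have h3 : n ^ m * t = t * n ^ m := hcomm _ h1 t ht
    have hco : Nat.gcd (2 ^ e) m = 1 := Nat.Coprime.pow_left _ (Nat.coprime_two_left.2 hm)
    have hn1 : n = (n ^ 2 ^ e) ^ (Nat.gcdA (2 ^ e) m) * (n ^ m) ^ (Nat.gcdB (2 ^ e) m) := by
      rw [← zpow_natCast n (2 ^ e), ← zpow_natCast n m, ← zpow_mul, ← zpow_mul, ← zpow_add,
        ← Nat.gcd_eq_gcd_ab, hco, Nat.cast_one, zpow_one]
    rw [hn1]
    exact (((show Commute _ t from h2).zpow_left _).mul_left
      ((show Commute _ t from h3).zpow_left _)).eq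
  have hcov : ∀ f ∈ F, f ≠ 1 → ∀ x ∈ centralizer ({f} : Set K),
      ∃ o ∈ core (centralizer ({f} : Set K)), ∃ t ∈ F, x = o * t := fun f hf hf1 =>
    exists_core_mul_sylow (hle f hf) P.2
      (fun h => P.not_dvd_index (h.trans (relIndex_dvd_index_of_le (hle f hf))))
      fun n hn hnN t ht => semi f hf hf1 n hnN (mem_centralizer_singleton_iff.1 hn) t ht
  have hfus : ∀ f ∈ F, ∀ g : K, g * f * g⁻¹ ∈ F →
      ∃ n ∈ normalizer (F : Set K), n * (g * f * g⁻¹) * n⁻¹ = f := by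
    intro f hf g hg
    obtain ⟨c, hc, hcF⟩ := CfsgLib.Transfer.exists_conj_le P.2
      (fun h => P.not_dvd_index (h.trans (relIndex_dvd_index_of_le (hle f hf))))
      (S := F.map (MulAut.conj g⁻¹).toMonoidHom) (by
        rintro _ ⟨t, ht, rfl⟩
        refine mem_centralizer_singleton_iff.2 ?_
        show g⁻¹ * t * g⁻¹⁻¹ * f = f * (g⁻¹ * t * g⁻¹⁻¹)
        rw [show g⁻¹ * t * g⁻¹⁻¹ * f = g⁻¹ * (t * (g * f * g⁻¹)) * g by group,
          hcomm t ht _ hg]
        group) (P.2.map _)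
    refine ⟨c⁻¹ * g⁻¹, ?_, ?_⟩
    · refine CfsgLib.Transfer.map_conj_eq_self_iff.1 (eq_of_le_of_card_ge ?_ ?_)
      · rintro _ ⟨t, ht, rfl⟩
        have := hcF _ ⟨t, ht, rfl⟩
        show c⁻¹ * g⁻¹ * t * (c⁻¹ * g⁻¹)⁻¹ ∈ F
        rwa [show c⁻¹ * g⁻¹ * t * (c⁻¹ * g⁻¹)⁻¹ = c⁻¹ * (g⁻¹ * t * g⁻¹⁻¹) * c by group]
      · rw [CfsgLib.Transfer.card_map_conj]
    · rw [show c⁻¹ * g⁻¹ * (g * f * g⁻¹) * (c⁻¹ * g⁻¹)⁻¹ = c⁻¹ * (f * c) by group,
        ← mem_centralizer_singleton_iff.1 hc, inv_mul_cancel_left]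
  -- the signalizer functor
  let θ : K → Subgroup K := fun f => core (centralizer ({f} : Set K))
  have hθodd : ∀ f, Odd (Nat.card (θ f)) := fun f => odd_core _
  have hbal : ∀ f ∈ F, f ≠ 1 → ∀ g ∈ F, g ≠ 1 →
      θ f ⊓ centralizer ({g} : Set K) ≤ θ g := by
    intro f hf _ g hg hg1 x hx
    obtain ⟨o, ho, t, ht, e⟩ := hcov g hg hg1 x hx.2
    exact mem_of_odd ho (hexp t ht) (le_normalizer_core _ (hle g hg ht)) e (odd_orderOf_core hx.1)
  obtain ⟨hΘ, -⟩ := Cfsg.Agent.S0217.result F hcomm (fun f hf => by rw [pow_two]; exact hexp f hf)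
    (by simpa using hcard) θ (fun f _ _ => core_le _)
    (fun f _ _ h => Nat.not_odd_iff_even.2 (even_iff_two_dvd.2 h) (hθodd f))
    (fun f hf _ g hg x hx => (mem_normalizer_iff.1 (le_normalizer_core _ (hle f hf hg)) x).1 hx)
    (fun f _ _ => CfsgLib.OddLocal.FTFinal.odd_order_solvable (hθodd f)) hbal
  set Θ : Subgroup K := ⨆ f : {f : K // f ∈ F ∧ f ≠ 1}, θ f with hΘdef
  have hΘn : normalizer (F : Set K) ≤ normalizer (Θ : Set K) := by
    intro n hn
    refine CfsgLib.Transfer.map_conj_eq_self_iff.1 (eq_of_le_of_card_ge ?_ ?_)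
    · rw [hΘdef, Subgroup.map_iSup]
      refine iSup_le fun f => ?_
      have hnf : n * f.1 * n⁻¹ ∈ F := (mem_normalizer_iff.1 hn _).1 f.2.1
      have hne : n * f.1 * n⁻¹ ≠ 1 := fun h => f.2.2 (conj_eq_one_iff.1 h)
      refine le_trans ?_ (le_iSup (fun g : {f : K // f ∈ F ∧ f ≠ 1} => θ g) ⟨_, hnf, hne⟩)
      refine (core_map_conj n _).trans (le_of_eq ?_)
      refine congrArg core (le_antisymm ?_ ?_)
      · rintro _ ⟨x, hx, rfl⟩
        refine mem_centralizer_singleton_iff.2 ?_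
        show n * x * n⁻¹ * (n * f.1 * n⁻¹) = n * f.1 * n⁻¹ * (n * x * n⁻¹)
        rw [show n * x * n⁻¹ * (n * f.1 * n⁻¹) = n * (x * f.1) * n⁻¹ by group,
          mem_centralizer_singleton_iff.1 hx]
        group
      · intro x hx
        refine ⟨n⁻¹ * x * n, mem_centralizer_singleton_iff.2 ?_, by
          show n * (n⁻¹ * x * n) * n⁻¹ = x
          group⟩
        rw [show n⁻¹ * x * n * f.1 = n⁻¹ * (x * (n * f.1 * n⁻¹)) * n by group,
          mem_centralizer_singleton_iff.1 hx]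
        group
    · rw [CfsgLib.Transfer.card_map_conj]
  set M : Subgroup K := Θ ⊔ normalizer (F : Set K)
  have hFM : F ≤ M := le_normalizer.trans le_sup_right
  have hCM : ∀ f ∈ F, f ≠ 1 → centralizer ({f} : Set K) ≤ M := by
    intro f hf hf1 x hx
    obtain ⟨o, ho, t, ht, rfl⟩ := hcov f hf hf1 x hx
    exact mul_mem (mem_sup_left (le_iSup (fun g : {f : K // f ∈ F ∧ f ≠ 1} => θ g) ⟨f, hf, hf1⟩ ho))
      (hFM ht)
  have hinvol : ∀ f ∈ F, f ≠ 1 → orderOf f = 2 := fun f hf h =>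
    CfsgLib.Signalizer.orderOf_eq_two_of h (hexp f hf)
  have htop : ∀ g : K, g ∈ M := by
    intro g
    have hs : orderOf (g * b * g⁻¹) = 2 := by
      rw [CfsgLib.Signalizer.orderOf_conj, hinvol b hb hb1]
    obtain ⟨z, hz, hza, hzs⟩ := CfsgLib.Signalizer.exists_central_involution_of_not_conj
      (hinvol a ha ha1) hs fun h => hab (h.trans (isConj_iff.2 ⟨g, rfl⟩).symm)
    have hzM : z ∈ M := hCM a ha ha1 (mem_centralizer_singleton_iff.2 hza)
    have hFi : ¬ 2 ∣ F.relIndex M := fun h => P.not_dvd_index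
      (h.trans (relIndex_dvd_index_of_le hFM))
    have hp : ∀ {y : K}, orderOf y = 2 → IsPGroup 2 (zpowers y) := fun hy =>
      IsPGroup.of_card_dvd_pow (n := 1) (by rw [Nat.card_zpowers, hy, pow_one])
    obtain ⟨m, hm, hmz⟩ := CfsgLib.Transfer.exists_conj_le P.2 hFi (zpowers_le.2 hzM) (hp hz)
    have hz' := hmz z (mem_zpowers z)
    have hsM : g * b * g⁻¹ ∈ M := by
      have := hCM _ hz' (fun h => CfsgLib.Signalizer.involution_ne_one hz (by
        rw [show z = m * (m⁻¹ * z * m) * m⁻¹ by group, h]; group))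
        (x := m⁻¹ * (g * b * g⁻¹) * m) (mem_centralizer_singleton_iff.2 (by
          rw [show m⁻¹ * (g * b * g⁻¹) * m * (m⁻¹ * z * m) = m⁻¹ * (g * b * g⁻¹ * z) * m by group,
            ← hzs]
          group))
      have h2 := mul_mem (mul_mem hm this) (inv_mem hm)
      rwa [show m * (m⁻¹ * (g * b * g⁻¹) * m) * m⁻¹ = g * b * g⁻¹ by group] at h2
    obtain ⟨c, hc, hcs⟩ := CfsgLib.Transfer.exists_conj_le P.2 hFi (zpowers_le.2 hsM) (hp hs)
    have hs' := hcs _ (mem_zpowers _)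
    rw [show c⁻¹ * (g * b * g⁻¹) * c = (c⁻¹ * g) * b * (c⁻¹ * g)⁻¹ by group] at hs'
    obtain ⟨n, hn, hne⟩ := hfus b hb _ hs'
    have : n * (c⁻¹ * g) ∈ M := hCM b hb hb1 (mem_centralizer_singleton_iff.2 (by
      nth_rw 2 [← hne]
      group))
    have hnM : n ∈ M := mem_sup_right hn
    have h2 := mul_mem (mul_mem hc (inv_mem hnM)) this
    rwa [show c * n⁻¹ * (n * (c⁻¹ * g)) = g by group] at h2
  have hMeq : M = ⊤ := (eq_top_iff' M).2 htop
  have hΘnormal : Θ.Normal := by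
    refine normalizer_eq_top_iff.1 (top_unique ?_)
    rw [← hMeq]
    exact sup_le le_normalizer hΘn
  intro x
  obtain ⟨o, ho, n, hn, e⟩ := (mem_sup_of_normal_left (s := Θ)).1 (htop x)
  refine ⟨o, ?_, n, hn, e.symm⟩
  exact CfsgLib.Core.le_pPrimeCore
    (Nat.coprime_two_right.2 (Nat.not_even_iff_odd.1 fun h => hΘ h.two_dvd)) ho

end CfsgLib.Recog.AltEightThree
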