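import Cfsg.Agent.Lib.Recog.AltEightThreeClasses.Model
import Cfsg.Agent.Lib.Recog.AltEightThreeClasses.Semiregular

/-!
Owner: helper29. The centraliser of a vector of weight one is covered by its odd core and the
normaliser of `A`.
-/

set_option autoImplicit false

namespace CfsgLib.Recog.AltEightThree

open Subgroup Cfsg Equiv

universe u

/-- Membership in the pair `0`, `e₄` modulo the all-one vector. -/
def InZ (f : Vec) : Prop := Eqv 0 f ∨ Eqv (unit 4) f

instance (f : Vec) : Decidable (InZ f) := inferInstanceAs (Decidable (_ ∨ _))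

theorem W_square : ∀ τ : Perm (Fin 5), InV τ → ∀ f : Vec, wsum f = 0 → InZ (act τ f + f) := by
  decide +kernel

theorem square_W : ∀ τ : Perm (Fin 5), InV τ → τ ≠ 1 → ∀ f : Vec, InZ (act τ f + f) →
    wsum f = 0 := by decide +kernel

theorem fixed_pair_aux : ∀ σ τ : Perm (Fin 5), InV σ ∧ InV τ → σ ≠ 1 ∧ τ ≠ 1 ∧ σ ≠ τ →
    ∀ f : Vec, Eqv f (act σ f) ∧ Eqv f (act τ f) → InZ f := by decide +kernel

theorem fixed_pair (σ τ : Perm (Fin 5)) (h1 : InV σ) (h2 : InV τ) (h3 : σ ≠ 1) (h4 : τ ≠ 1)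
    (h5 : σ ≠ τ) (f : Vec) (h6 : Eqv f (act σ f)) (h7 : Eqv f (act τ f)) : InZ f :=
  fixed_pair_aux σ τ ⟨h1, h2⟩ ⟨h3, h4, h5⟩ f ⟨h6, h7⟩

theorem wsum_pair : wsum (unit 0 + unit 1) = 0 ∧ ¬ InZ (unit 0 + unit 1) := by decide +kernel

theorem stabiliser_cases : ∀ ρ : Perm (Fin 5), Perm.sign ρ = 1 → ρ 4 = 4 → ¬ InV ρ →
    ∀ τ : Perm (Fin 5), InV τ → τ ≠ 1 → ρ * τ * ρ⁻¹ ≠ τ := by decide +kernel

theorem stabiliser_fpf : ∀ ρ : Perm (Fin 5), Perm.sign ρ = 1 → ρ 4 = 4 → ¬ InV ρ →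
    ∀ f : Vec, wsum f = 0 → InZ (act ρ f + f) → InZ f := by decide +kernel

variable {G : Type u} [Group G]

theorem centralizer_zpowers (a : G) :
    centralizer ((zpowers a : Subgroup G) : Set G) = centralizer ({a} : Set G) := by
  rw [zpowers_eq_closure, centralizer_closure]

namespace Model

variable (M : Model G)

theorem val_InZ {f : Vec} : (M.val f = 1 ∨ M.val f = M.x 4) ↔ InZ f := by
  show _ ↔ Eqv 0 f ∨ Eqv (unit 4) f
  rw [← M.val_eq, ← M.val_eq, M.val_zero]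
  exact or_congr eq_comm eq_comm

theorem mem_zx {z : G} : z ∈ zpowers (M.x 4) ↔ z = 1 ∨ z = M.x 4 := by
  constructor
  · rintro ⟨k, rfl⟩
    show M.x 4 ^ k = 1 ∨ M.x 4 ^ k = M.x 4
    have h2 : M.x 4 ^ (2 : ℤ) = 1 := by rw [zpow_two, M.sq _ (M.x_mem 4)]
    obtain ⟨j, rfl | rfl⟩ := Int.even_or_odd' k
    · exact Or.inl (by rw [zpow_mul, h2, one_zpow])
    · exact Or.inr (by rw [zpow_add, zpow_mul, h2, one_zpow, zpow_one, one_mul])
  · rintro (rfl | rfl)
    · exact one_mem _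
    · exact mem_zpowers _

variable [Finite G]

theorem zx_le : zpowers (M.x 4) ≤ M.W := zpowers_le.2 M.x4_mem_W

theorem π_of_W {n : G} (hn : n ∈ M.N) (h : n ∈ centralizer (M.W : Set G)) : M.π n = 1 :=
  eq_one_of_wsum _ fun f hf => (M.val_eq _ _).1 (by
    rw [← M.π_conj n hn, ← mem_centralizer_iff.1 h _ (M.mem_W_iff.2 hf), mul_inv_cancel_right])

theorem S_x4 {s : G} (hs : s ∈ (M.S : Subgroup G)) : s * M.x 4 = M.x 4 * s := by
  have := M.conj_x (M.S_le hs) 4
  rw [(M.π_S s hs).1] at this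
  exact mul_inv_eq_iff_eq_mul.1 this

theorem S_zx {s z : G} (hs : s ∈ (M.S : Subgroup G)) (hz : z ∈ zpowers (M.x 4)) :
    s * z = z * s := by
  obtain ⟨k, rfl⟩ := hz
  exact (show Commute s (M.x 4) from M.S_x4 hs).zpow_right k

theorem sq_mem_A {s : G} (hs : s ∈ (M.S : Subgroup G)) : s * s ∈ M.A :=
  M.mem_A_S (mul_mem hs hs) (by rw [M.π_mul _ _ (M.S_le hs) (M.S_le hs), (M.π_S s hs).2.1])

theorem sq_mul_val {s : G} (hs : s ∈ (M.S : Subgroup G)) (f : Vec) :
    s * M.val f * (s * M.val f) = s * s * M.val (act (M.π s) f + f) := by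
  have hsi : M.π s⁻¹ = M.π s := by
    rw [M.π_inv (M.S_le hs), inv_eq_of_mul_eq_one_right (M.π_S s hs).2.1]
  rw [M.val_add, ← hsi, ← M.π_conj _ (inv_mem (M.S_le hs))]
  group

/-- The maximal subgroup of `S` meeting `A` in `W` and containing all outer involutions. -/
def T0 : Subgroup G where
  carrier := {s | s ∈ (M.S : Subgroup G) ∧ s * s ∈ zpowers (M.x 4) ∧ (s ∈ M.A → s ∈ M.W)}
  one_mem' := ⟨one_mem _, by rw [one_mul]; exact one_mem _, fun _ => one_mem _⟩
  inv_mem' := fun ⟨h1, h2, h3⟩ => ⟨inv_mem h1, by rw [← mul_inv_rev]; exact inv_mem h2,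
    fun h => inv_mem (h3 (by simpa using inv_mem h))⟩
  mul_mem' := by
    rintro s t ⟨hs, hs2, hsA⟩ ⟨ht, ht2, htA⟩
    have hzW := M.zx_le
    have hst := mul_mem hs ht
    by_cases ht' : t ∈ M.A
    · obtain ⟨f, hf, rfl⟩ := htA ht'
      by_cases hs' : s ∈ M.A
      · exact ⟨hst, by rw [M.sq _ (mul_mem hs' ht')]; exact one_mem _,
          fun _ => mul_mem (hsA hs') ⟨f, hf, rfl⟩⟩
      · refine ⟨hst, ?_, fun h => absurd ((mul_mem_cancel_right ht').1 h) hs'⟩
        rw [M.sq_mul_val hs]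
        exact mul_mem hs2 (M.mem_zx.2 (M.val_InZ.2 (W_square _ (M.π_S s hs) f hf)))
    by_cases hs' : s ∈ M.A
    · obtain ⟨f, hf, rfl⟩ := hsA hs'
      refine ⟨hst, ?_, fun h => absurd ((mul_mem_cancel_left hs').1 h) ht'⟩
      rw [show M.val f * t * (M.val f * t) = t⁻¹ * (t * M.val f * (t * M.val f)) * t by group,
        M.sq_mul_val ht]
      have hz := mul_mem ht2 (M.mem_zx.2 (M.val_InZ.2 (W_square _ (M.π_S t ht) f hf)))
      rw [mul_assoc, ← M.S_zx ht hz, inv_mul_cancel_left]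
      exact hz
    have hσ := M.π_S s hs
    have hτ := M.π_S t ht
    have hπst : M.π (s * t) = M.π s * M.π t := M.π_mul _ _ (M.S_le hs) (M.S_le ht)
    by_cases he : M.π s = M.π t
    · have hd : s⁻¹ * t ∈ M.A := M.mem_A_S (mul_mem (inv_mem hs) ht) (by
        rw [M.π_mul _ _ (inv_mem (M.S_le hs)) (M.S_le ht), M.π_inv (M.S_le hs), he, inv_mul_cancel])
      obtain ⟨f, hf⟩ := M.val_surj _ hd
      have hte : t = s * M.val f := by rw [hf, mul_inv_cancel_left]
      have hz : M.val (act (M.π s) f + f) ∈ zpowers (M.x 4) := by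
        rw [hte, M.sq_mul_val hs] at ht2
        exact (mul_mem_cancel_left hs2).1 ht2
      have hw := square_W _ hσ (M.π_ne_one hs hs') f (M.val_InZ.1 (M.mem_zx.1 hz))
      have hmem : s * t ∈ M.W := by
        rw [hte, ← mul_assoc]; exact mul_mem (hzW hs2) ⟨f, hw, rfl⟩
      exact ⟨hst, by rw [M.sq _ (M.W_le hmem)]; exact one_mem _, fun _ => hmem⟩
    · refine ⟨hst, ?_, fun h => absurd ?_ he⟩
      · obtain ⟨q, hq⟩ := M.val_surj _ (M.sq_mem_A hst)
        have h1 : s⁻¹ * (s * t * (s * t)) * s = t * s * (t * s) := by group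
        have h2 : t * (s * t * (s * t)) * t⁻¹ = t * s * (t * s) := by group
        have h3 : s * t * (t * s) = s * s * (t * t) := by
          rw [show s * t * (t * s) = s * ((t * t) * s) by group, ← M.S_zx hs ht2, mul_assoc]
        have h4 : t * s * (t * s) = s * t * (s * t) := by
          have hc : ∀ y, y ∈ (M.S : Subgroup G) → y * (s * s * (t * t)) = s * s * (t * t) * y :=
            fun y hy => M.S_zx hy (mul_mem hs2 ht2)
          have he1 : t * s = (s * t)⁻¹ * (s * s * (t * t)) := by rw [← h3]; group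
          have hz1 : s * s * (t * t) * (s * s * (t * t)) = 1 :=
            M.sq _ (M.W_le (hzW (mul_mem hs2 ht2)))
          rw [he1, hc _ (inv_mem hst),
            show s * s * (t * t) * (s * t)⁻¹ * (s * s * (t * t) * (s * t)⁻¹) =
              s * s * (t * t) * ((s * t)⁻¹ * (s * s * (t * t))) * (s * t)⁻¹ by group,
            hc _ (inv_mem hst),
            show s * s * (t * t) * (s * s * (t * t) * (s * t)⁻¹) * (s * t)⁻¹ =
              s * s * (t * t) * (s * s * (t * t)) * (s * t * (s * t))⁻¹ by group, hz1, one_mul]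
          exact M.inv_eq (M.sq_mem_A hst)
        have hs_fix : Eqv q (act (M.π s) q) := (M.val_eq _ _).1 (by
          rw [← M.π_conj s (M.S_le hs), hq]
          nth_rw 2 [← h4]
          rw [← h1]; group)
        have ht_fix : Eqv q (act (M.π t) q) := (M.val_eq _ _).1 (by
          rw [← M.π_conj t (M.S_le ht), hq, h2, h4])
        rw [← hq]
        exact M.mem_zx.2 (M.val_InZ.2 (fixed_pair _ _ hσ hτ (M.π_ne_one hs hs') (M.π_ne_one ht ht')
          he q hs_fix ht_fix))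
      · have := M.π_A h
        rw [hπst] at this
        rw [mul_eq_one_iff_eq_inv.1 this, inv_eq_of_mul_eq_one_right hτ.2.1]

theorem T0_le : M.T0 ≤ (M.S : Subgroup G) := fun _ h => h.1

theorem W_le_T0 : M.W ≤ M.T0 := fun w hw =>
  ⟨M.hAS (M.W_le hw), by rw [M.sq _ (M.W_le hw)]; exact one_mem _, fun _ => hw⟩

theorem invol_mem_T0 {u : G} (hu : u ∈ (M.S : Subgroup G)) (hu2 : u * u = 1) (huA : u ∉ M.A) :
    u ∈ M.T0 := ⟨hu, by rw [hu2]; exact one_mem _, fun h => absurd h huA⟩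

theorem x0_not_W : M.x 0 ∉ M.W := fun h => by
  have : wsum (unit 0) ≠ 0 := by decide
  exact this (M.mem_W_iff.1 h)

theorem T0_split {s : G} (hs : s ∈ (M.S : Subgroup G)) : s ∈ M.T0 ∨ s * M.x 0 ∈ M.T0 := by
  have key : ∀ f : Vec, M.val f ∈ M.W ∨ M.val f * M.x 0 ∈ M.W := fun f => by
    have : ∀ f : Vec, wsum f = 0 ∨ wsum (f + unit 0) = 0 := by decide +kernel
    refine (this f).imp M.mem_W_iff.2 fun h => ?_
    show M.val f * M.val (unit 0) ∈ M.W
    rw [← M.val_add]; exact M.mem_W_iff.2 h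
  by_cases hA : s ∈ M.A
  · obtain ⟨f, rfl⟩ := M.val_surj s hA
    exact (key f).imp (fun h => M.W_le_T0 h) (fun h => M.W_le_T0 h)
  · obtain ⟨u, hu, hπ, hu2, huA⟩ := M.exists_involution (M.π_S s hs) (M.π_ne_one hs hA)
    obtain ⟨f, hf⟩ := M.val_surj _ (M.mem_A_S (mul_mem (inv_mem hu) hs) (by
      rw [M.π_mul _ _ (inv_mem (M.S_le hu)) (M.S_le hs), M.π_inv (M.S_le hu), hπ, inv_mul_cancel]))
    have huT := M.invol_mem_T0 hu hu2 huA
    rw [show s = u * M.val f by rw [hf, mul_inv_cancel_left], mul_assoc u (M.val f) (M.x 0)]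
    exact (key f).imp (fun h => mul_mem huT (M.W_le_T0 h)) (fun h => mul_mem huT (M.W_le_T0 h))

theorem T0_inf_A {t : G} (ht : t ∈ M.T0) (hA : t ∈ M.A) : t ∈ M.W := ht.2.2 hA

theorem relIndex_T0 : M.T0.relIndex (M.S : Subgroup G) = 2 := by
  have hx : M.x 0 ∉ M.T0 := fun h => M.x0_not_W (M.T0_inf_A h (M.x_mem 0))
  refine relIndex_eq_two_iff.2 ⟨M.x 0, M.hAS (M.x_mem 0), fun b hb => ?_⟩
  rcases M.T0_split hb with h | h
  · exact Or.inr ⟨h, fun h' => hx ((mul_mem_cancel_left h).1 h')⟩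
  · exact Or.inl ⟨h, fun h' => hx ((mul_mem_cancel_left h').1 h)⟩

theorem le_centralizer_W : centralizer (M.W : Set G) ≤ centralizer ({M.x 4} : Set G) := fun _ hy =>
  mem_centralizer_singleton_iff.2 (mem_centralizer_iff.1 hy _ M.x4_mem_W).symm

/-- Elements normalising `T0` factor through the core of the centraliser of `W`. -/
theorem exists_factor {n : G} (hn : n ∈ centralizer ({M.x 4} : Set G))
    (hT : ∀ t ∈ M.T0, n * t * n⁻¹ ∈ M.T0) :
    ∃ o ∈ core (centralizer (M.W : Set G)), ∃ m ∈ M.N, m ∈ centralizer ({M.x 4} : Set G) ∧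
      M.π m 4 = 4 ∧ n = o * m := by
  have hW : n ∈ normalizer (M.W : Set G) := by
    refine CfsgLib.Transfer.map_conj_eq_self_iff.1 (eq_of_le_of_card_ge ?_ ?_)
    · rintro _ ⟨w, hw, rfl⟩
      have h := hT w (M.W_le_T0 hw)
      exact M.T0_inf_A h (M.closed w (M.W_le hw) n (M.T0_le h))
    · rw [CfsgLib.Transfer.card_map_conj]
  obtain ⟨c, hc, hcn⟩ := M.exists_centralizer_mul M.W_le hW
  obtain ⟨o, ho, k, hk, hkX, e⟩ := M.cov_W c⁻¹ (inv_mem hc)
  have hm : k * (c * n) ∈ M.N := mul_mem hk hcn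
  have hne : n = o * (k * (c * n)) := by rw [← mul_assoc, ← e, inv_mul_cancel_left]
  have hmX : k * (c * n) ∈ centralizer ({M.x 4} : Set G) :=
    mul_mem (M.le_centralizer_W hkX) (mul_mem (M.le_centralizer_W hc) hn)
  exact ⟨o, ho, _, hm, hmX, M.fix_four hm (mem_centralizer_singleton_iff.1 hmX), hne⟩

/-- The centraliser of a vector of weight one. -/
theorem cov_point : Cov M.N (centralizer ({M.x 4} : Set G)) := by
  classical
  have : Fact (Nat.Prime 2) := ⟨Nat.prime_two⟩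
  set X := centralizer ({M.x 4} : Set G) with hXdef
  have hSX : (M.S : Subgroup G) ≤ X := fun s hs => mem_centralizer_singleton_iff.2 (M.S_x4 hs)
  have hSi : ¬ 2 ∣ (M.S : Subgroup G).relIndex X := fun h =>
    M.S.not_dvd_index (h.trans (relIndex_dvd_index_of_le hSX))
  have hx0X : M.x 0 ∈ X := hSX (M.hAS (M.x_mem 0))
  have hπX : ∀ n ∈ M.N, n ∈ X → M.π n 4 = 4 := fun n hn hnX =>
    M.fix_four hn (mem_centralizer_singleton_iff.1 hnX)
  have hfus : ∀ g ∈ X, ∀ f : Vec, g * M.val f * g⁻¹ ∈ (M.S : Subgroup G) →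
      ∃ n ∈ M.N, M.π n 4 = 4 ∧ M.val (act (M.π n) f) = g * M.val f * g⁻¹ := by
    intro g hg f hgS
    obtain ⟨n, hn, hnX, e⟩ := M.fus (X := X) (M.hAS.trans hSX) (M.val_mem f) hg
      (M.closed _ (M.val_mem f) g hgS)
    exact ⟨n, hn, hπX n hn hnX, by rw [← M.π_conj n hn, e]⟩
  obtain ⟨X1, hX1le, hX1n, hX1s, hx0X1, hX1sq, hX1i, hX1mem⟩ :=
    transfer_in hSX M.S.2 hSi M.relIndex_T0 (M.hAS (M.x_mem 0)) (M.sq _ (M.x_mem 0))
      (by
        intro g hg hgS hgT
        obtain ⟨n, -, hn4, e⟩ := hfus g hg (unit 0) hgS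
        have hW := M.T0_inf_A hgT (by
          show g * M.val (unit 0) * g⁻¹ ∈ M.A
          rw [← e]; exact M.val_mem _)
        rw [show g * M.x 0 * g⁻¹ = g * M.val (unit 0) * g⁻¹ from rfl, ← e, M.mem_W_iff,
          wsum_act _ hn4] at hW
        exact absurd hW (by decide))
  have hWX1 : M.W ≤ X1 := by
    intro w hw
    obtain ⟨f, hf, rfl⟩ := hw
    refine hX1mem _ (hSX (M.hAS (M.val_mem f))) (M.sq _ (M.val_mem f)) fun g hg hgS => ?_
    obtain ⟨n, -, hn4, e⟩ := hfus g hg f hgS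
    rw [← e]
    exact M.W_le_T0 (M.mem_W_iff.2 (by rw [wsum_act _ hn4, hf]))
  have hinvX1 : ∀ u ∈ (M.S : Subgroup G), u * u = 1 → u ∉ M.A → u ∈ X1 := by
    intro u hu hu2 huA
    refine hX1mem u (hSX hu) hu2 fun g _ hgS => M.invol_mem_T0 hgS ?_ fun h => huA ?_
    · rw [show g * u * g⁻¹ * (g * u * g⁻¹) = g * (u * u) * g⁻¹ by group, hu2]; group
    · have h2 := M.closed _ h g⁻¹ (by rwa [show g⁻¹ * (g * u * g⁻¹) * g⁻¹⁻¹ = u by group])
      rwa [show g⁻¹ * (g * u * g⁻¹) * g⁻¹⁻¹ = u by group] at h2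
  have hT0X1 : M.T0 ≤ X1 := by
    intro s hs
    by_cases hA : s ∈ M.A
    · exact hWX1 (M.T0_inf_A hs hA)
    · obtain ⟨u, hu, hπ, hu2, huA⟩ := M.exists_involution (M.π_S s hs.1) (M.π_ne_one hs.1 hA)
      have hd : u⁻¹ * s ∈ M.A := M.mem_A_S (mul_mem (inv_mem hu) hs.1) (by
        rw [M.π_mul _ _ (inv_mem (M.S_le hu)) (M.S_le hs.1), M.π_inv (M.S_le hu), hπ,
          inv_mul_cancel])
      rw [← mul_inv_cancel_left u s]
      exact mul_mem (hinvX1 u hu hu2 huA)
        (hWX1 (M.T0_inf_A (mul_mem (inv_mem (M.invol_mem_T0 hu hu2 huA)) hs) hd))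
  have hinf : (M.S : Subgroup G) ⊓ X1 = M.T0 := by
    refine le_antisymm (fun s hs => ?_) (le_inf M.T0_le hT0X1)
    refine (M.T0_split hs.1).resolve_right fun h => hx0X1 ?_
    exact (Subgroup.mul_mem_cancel_left X1 hs.2).1 (hT0X1 h)
  rw [hinf] at hX1i
  -- the quotient by the central involution
  let Z : Subgroup X1 := (zpowers (M.x 4)).subgroupOf X1
  have hZc : ∀ y ∈ X1, ∀ z ∈ zpowers (M.x 4), y * z = z * y := by
    rintro y hy _ ⟨k, rfl⟩
    exact (show Commute y (M.x 4) from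
      mem_centralizer_singleton_iff.1 (hX1le hy)).zpow_right k
  have : Z.Normal := ⟨fun z hz g => by
    have hc : g * z = z * g := Subtype.ext (hZc g g.2 z hz)
    rwa [hc, mul_inv_cancel_right]⟩
  let p := QuotientGroup.mk' Z
  let P0 : Sylow 2 X1 := ((M.S.2.to_le M.T0_le).comap_subtype (K := X1)).toSylow hX1i
  let P : Sylow 2 (X1 ⧸ Z) := P0.mapSurjective (f := p) (QuotientGroup.mk'_surjective Z)
  have hP : (P : Subgroup (X1 ⧸ Z)) = (M.T0.subgroupOf X1).map p := rfl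
  have hZT0 : zpowers (M.x 4) ≤ M.T0 := M.zx_le.trans M.W_le_T0
  have hpeq : ∀ {a b : X1}, p a = p b → (a : G)⁻¹ * b ∈ zpowers (M.x 4) := fun {a b} h =>
    (QuotientGroup.eq (s := Z)).1 h
  have hlift : ∀ {a : X1}, p a ∈ (P : Subgroup (X1 ⧸ Z)) → (a : G) ∈ M.T0 := by
    intro a h
    rw [hP] at h
    obtain ⟨t, ht, e⟩ := h
    have := mul_mem (mem_subgroupOf.1 ht) (hZT0 (hpeq e))
    rwa [mul_inv_cancel_left] at this
  have hexp : ∀ f ∈ (P : Subgroup (X1 ⧸ Z)), f * f = 1 := by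
    rw [hP]
    rintro _ ⟨t, ht, rfl⟩
    rw [← map_mul]
    exact (QuotientGroup.eq_one_iff (N := Z) _).2 (mem_subgroupOf.1 ht).2.1
  obtain ⟨u, hu, hπu, hu2, huA⟩ := M.exists_involution
    (show InV (swap (0 : Fin 5) 1 * swap 2 3) by decide) (by decide)
  have hcard : 8 ≤ Nat.card (P : Subgroup (X1 ⧸ Z)) := by
    let φ := p.comp (M.T0.subgroupOf X1).subtype
    have hr : φ.range = (P : Subgroup (X1 ⧸ Z)) := by
      rw [hP, MonoidHom.range_comp, Subgroup.range_subtype]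
    have hk : Nat.card φ.ker ≤ 2 := by
      refine le_trans (Nat.card_le_card_of_injective
        (fun t : φ.ker => (⟨((t.1.1 : X1) : G), (QuotientGroup.eq_one_iff (N := Z) _).1 t.2⟩ :
          zpowers (M.x 4))) ?_) (le_of_eq (by rw [Nat.card_zpowers, M.orderOf_x 4]))
      intro t t' h
      exact Subtype.ext (Subtype.ext (Subtype.ext (congrArg Subtype.val h :)))
    have h1 := φ.ker.card_mul_index
    rw [index_ker, hr] at h1
    have h2 : Nat.card M.T0 * 2 = Nat.card (M.S : Subgroup G) := by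
      have h := card_mul_index (M.T0.subgroupOf (M.S : Subgroup G))
      rwa [Nat.card_congr (subgroupOfEquivOfLe M.T0_le).toEquiv,
        show (M.T0.subgroupOf (M.S : Subgroup G)).index = 2 from M.relIndex_T0] at h
    have h3 : Nat.card (M.T0.subgroupOf X1) = Nat.card M.T0 :=
      Nat.card_congr (subgroupOfEquivOfLe hT0X1).toEquiv
    obtain ⟨k, hk'⟩ : 16 ∣ Nat.card (M.S : Subgroup G) := M.card_A ▸ card_dvd_of_le M.hAS
    have h4 : k ≠ 1 := fun h => huA (by
      rw [h, mul_one] at hk'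
      exact (eq_of_le_of_card_ge M.hAS (by rw [hk', M.card_A])).symm ▸ hu)
    have h5 : 0 < Nat.card (M.S : Subgroup G) := Nat.card_pos
    rw [h3] at h1
    have h6 : 2 ≤ k := by
      rcases k with _ | _ | k
      · rw [hk'] at h5; omega
      · exact absurd rfl h4
      · omega
    nlinarith [Nat.card_pos (α := (P : Subgroup (X1 ⧸ Z)))]
  have hsemi : ∀ n ∈ normalizer ((P : Subgroup (X1 ⧸ Z)) : Set (X1 ⧸ Z)), Odd (orderOf n) →
      ∀ f ∈ (P : Subgroup (X1 ⧸ Z)), f ≠ 1 → n * f * n⁻¹ = f →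
        ∀ f' ∈ (P : Subgroup (X1 ⧸ Z)), n * f' * n⁻¹ = f' := by
    intro q hq hodd f hf hf1 hfix
    obtain ⟨n, rfl⟩ := QuotientGroup.mk'_surjective Z q
    change p n ∈ _ at hq
    have hT : ∀ t ∈ M.T0, (n : G) * t * (n : G)⁻¹ ∈ M.T0 := fun t ht =>
      hlift (a := n * ⟨t, hT0X1 ht⟩ * n⁻¹) (by
        rw [map_mul, map_mul, map_inv]
        exact (mem_normalizer_iff.1 hq _).1 (by rw [hP]; exact mem_map_of_mem p ht))
    obtain ⟨o, ho, m, hm, hmX, hm4, he⟩ := M.exists_factor (hX1le n.2) hT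
    set ρ := M.π m with hρ
    have hmW := M.normalizer_W hm hm4
    have hconjW : ∀ g : Vec, wsum g = 0 → (n : G) * M.val g * (n : G)⁻¹ = M.val (act ρ g) := by
      intro g hg
      have h1 : m * M.val g * m⁻¹ ∈ M.W := (mem_normalizer_iff.1 hmW _).1 (M.mem_W_iff.2 hg)
      rw [he, show o * m * M.val g * (o * m)⁻¹ = o * (m * M.val g * m⁻¹) * o⁻¹ by group,
        ← mem_centralizer_iff.1 (AltEightThree.core_le _ ho) _ h1, mul_inv_cancel_right,
        M.π_conj m hm]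
    have hconjπ : ∀ t ∈ M.T0, M.π ((n : G) * t * (n : G)⁻¹) = ρ * M.π t * ρ⁻¹ := by
      intro t ht
      have htN := M.S_le ht.1
      have hy : m * t * m⁻¹ ∈ M.N := mul_mem (mul_mem hm htN) (inv_mem hm)
      have hy4 : M.π (m * t * m⁻¹) 4 = 4 := by
        rw [M.π_conj_eq hm htN]
        simp only [Perm.mul_apply]
        rw [(Perm.inv_eq_iff_eq).2 hm4.symm, (M.π_S t ht.1).1]
        exact hm4
      have hnt : (n : G) * t * (n : G)⁻¹ ∈ M.N := M.S_le (M.T0_le (hT t ht))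
      have hd : (n : G) * t * (n : G)⁻¹ * (m * t * m⁻¹)⁻¹ ∈ centralizer (M.W : Set G) := by
        rw [he, show o * m * t * (o * m)⁻¹ * (m * t * m⁻¹)⁻¹ =
          o * (m * t * m⁻¹ * o⁻¹ * (m * t * m⁻¹)⁻¹) by group]
        exact mul_mem (AltEightThree.core_le _ ho) ((mem_normalizer_iff.1
          (CfsgLib.Transfer.normalizer_le_normalizer_centralizer _ (M.normalizer_W hy hy4)) _).1
          (inv_mem (AltEightThree.core_le _ ho)))
      have h1 := M.π_of_W (mul_mem hnt (inv_mem hy)) hd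
      rw [M.π_mul _ _ hnt (inv_mem hy), M.π_inv hy, mul_inv_eq_one] at h1
      rw [h1, M.π_conj_eq hm htN]
    have hZ1 : ∀ g : Vec, InZ g → M.val g ∈ zpowers (M.x 4) := fun g hg =>
      M.mem_zx.2 (M.val_InZ.2 hg)
    by_cases hρV : InV ρ
    · have hW1 : ∀ w : X1, (w : G) ∈ M.W → p n * p w * (p n)⁻¹ = p w := by
        intro w hw
        obtain ⟨g, hg, e⟩ := hw
        rw [← map_inv, ← map_mul, ← map_mul]
        refine ((QuotientGroup.eq (s := Z)).2 ?_).symm
        show (w : G)⁻¹ * ((n : G) * w * (n : G)⁻¹) ∈ zpowers (M.x 4)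
        rw [← e, hconjW g hg, M.inv_eq (M.val_mem g), ← M.val_add, add_comm]
        exact hZ1 _ (W_square _ hρV g hg)
      intro f' hf'
      rw [hP] at hf'
      obtain ⟨t, ht, rfl⟩ := hf'
      have ht' := mem_subgroupOf.1 ht
      have hw : (t : G)⁻¹ * ((n : G) * t * (n : G)⁻¹) ∈ M.W := by
        refine M.T0_inf_A (mul_mem (inv_mem ht') (hT _ ht')) (M.mem_A_S
          (mul_mem (inv_mem ht'.1) (M.T0_le (hT _ ht'))) ?_)
        rw [M.π_mul _ _ (inv_mem (M.S_le ht'.1)) (M.S_le (M.T0_le (hT _ ht'))), hconjπ _ ht',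
          M.π_inv (M.S_le ht'.1), inV_commute _ _ hρV (M.π_S _ ht'.1), mul_inv_cancel_right,
          inv_mul_cancel]
      set w : X1 := t⁻¹ * (n * t * n⁻¹) with hwdef
      have h1 : p n * p t * (p n)⁻¹ = p t * p w := by
        rw [← map_inv, ← map_mul, ← map_mul, ← map_mul, hwdef, mul_inv_cancel_left]
      have h2 := hW1 w hw
      have hiter : ∀ k : ℕ, p n ^ k * p t * (p n ^ k)⁻¹ = p t * p w ^ k := by
        intro k
        induction k with
        | zero => simp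
        | succ k ih =>
          rw [pow_succ', pow_succ' (p w), show p n * p n ^ k * p t * (p n * p n ^ k)⁻¹ =
            p n * (p n ^ k * p t * (p n ^ k)⁻¹) * (p n)⁻¹ by group, ih,
            show p n * (p t * p w ^ k) * (p n)⁻¹ =
              (p n * p t * (p n)⁻¹) * (p n * p w ^ k * (p n)⁻¹) by group, ← conj_pow, h2, h1,
            mul_assoc]
      have h3 := hiter (orderOf (p n))
      rw [pow_orderOf_eq_one, one_mul, inv_one, mul_one] at h3
      have h4 : p w ^ orderOf (p n) = 1 := mul_eq_left.1 h3.symm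
      have h5 : p w ^ 2 = 1 := by
        rw [pow_two, ← map_mul,
          show w * w = 1 from Subtype.ext (M.sq _ (M.W_le hw)), map_one]
      have h6 : p w = 1 := by
        have := pow_gcd_eq_one.2 ⟨h5, h4⟩
        rwa [Nat.Coprime.gcd_eq_one (Nat.coprime_two_left.2 hodd), pow_one] at this
      rw [h1, h6, mul_one]
    · exfalso
      rw [hP] at hf
      obtain ⟨t, ht, rfl⟩ := hf
      have ht' := mem_subgroupOf.1 ht
      rw [← map_inv, ← map_mul, ← map_mul] at hfix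
      have hz : (t : G)⁻¹ * ((n : G) * t * (n : G)⁻¹) ∈ zpowers (M.x 4) := hpeq hfix.symm
      by_cases htA : (t : G) ∈ M.A
      · obtain ⟨g, hg, e⟩ := M.T0_inf_A ht' htA
        rw [← e, hconjW g hg, M.inv_eq (M.val_mem g), ← M.val_add, add_comm] at hz
        have := hZ1 g (stabiliser_fpf ρ (M.π_sign m hm) hm4 hρV g hg
          (M.val_InZ.1 (M.mem_zx.1 hz)))
        exact hf1 ((QuotientGroup.eq_one_iff (N := Z) _).2 (by
          show (t : G) ∈ zpowers (M.x 4); rw [← e]; exact this))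
      · refine stabiliser_cases ρ (M.π_sign m hm) hm4 hρV _ (M.π_S _ ht'.1)
          (M.π_ne_one ht'.1 htA) ?_
        rw [← hconjπ _ ht', show (n : G) * t * (n : G)⁻¹ =
            t * ((t : G)⁻¹ * ((n : G) * t * (n : G)⁻¹)) by group,
          M.π_mul _ _ (M.S_le ht'.1) (M.A_le_N (M.W_le (M.zx_le hz))),
          M.π_A (M.W_le (M.zx_le hz)), mul_one]
  -- two classes
  have haW : M.val (unit 0 + unit 1) ∈ M.W := M.mem_W_iff.2 wsum_pair.1
  let a : X1 := ⟨_, hWX1 haW⟩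
  let b : X1 := ⟨u, hinvX1 u hu hu2 huA⟩
  have hcov := semiregular_cover P hexp hcard hsemi (a := p a) (b := p b)
    (by rw [hP]; exact mem_map_of_mem p (M.W_le_T0 haW))
    (fun h => by
      have h' := (QuotientGroup.eq_one_iff (N := Z) _).1 h
      exact wsum_pair.2 (M.val_InZ.1 (M.mem_zx.1 h')))
    (by rw [hP]; exact mem_map_of_mem p (M.invol_mem_T0 hu hu2 huA))
    (fun h => huA (M.W_le (M.zx_le ((QuotientGroup.eq_one_iff (N := Z) _).1 h))))
    (by
      intro h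
      obtain ⟨c, hc⟩ := isConj_iff.1 h
      obtain ⟨g, rfl⟩ := QuotientGroup.mk'_surjective Z c
      change p g * p a * (p g)⁻¹ = p b at hc
      rw [← map_inv, ← map_mul, ← map_mul] at hc
      have hz : ((g * a * g⁻¹ : X1) : G)⁻¹ * u ∈ zpowers (M.x 4) := hpeq hc
      set y : G := ((g * a * g⁻¹ : X1) : G) with hy
      have hyS : y ∈ (M.S : Subgroup G) := by
        have := mul_mem hu (inv_mem (M.T0_le (hZT0 hz)))
        rwa [show u * (y⁻¹ * u)⁻¹ = y by group] at this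
      have hyA : y ∈ M.A := M.closed _ (M.W_le haW) g hyS
      exact huA (by
        have := mul_mem hyA (M.W_le (M.zx_le hz))
        rwa [mul_inv_cancel_left] at this))
  -- lift
  set Wc : Subgroup G := ((oddCore (X1 ⧸ Z)).comap p).map X1.subtype with hWc
  have hZWc : zpowers (M.x 4) ≤ Wc := fun z hz => ⟨⟨z, hT0X1 (hZT0 hz)⟩, by
    show p _ ∈ oddCore (X1 ⧸ Z)
    rw [show p ⟨z, hT0X1 (hZT0 hz)⟩ = 1 from (QuotientGroup.eq_one_iff (N := Z) _).2 hz]
    exact one_mem _, rfl⟩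
  have hZi : ¬ 2 ∣ (zpowers (M.x 4)).relIndex Wc := by
    have h1 : (zpowers (M.x 4)).relIndex Wc = Nat.card (oddCore (X1 ⧸ Z)) := by
      have hZ' : (zpowers (M.x 4)).relIndex Wc = Z.relIndex ((oddCore (X1 ⧸ Z)).comap p) := by
        conv_lhs => rw [← map_subgroupOf_eq_of_le ((hZT0.trans hT0X1)), hWc]
        exact relIndex_map_map_of_injective _ _ X1.subtype_injective
      rw [hZ']
      have h2 : p.ker.relIndex ((oddCore (X1 ⧸ Z)).comap p) = Nat.card (oddCore (X1 ⧸ Z)) := by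
        rw [relIndex_ker, map_comap_eq_self_of_surjective (QuotientGroup.mk'_surjective Z)]
      rwa [QuotientGroup.ker_mk'] at h2
    rw [h1]
    exact fun h => Nat.not_even_iff_odd.2 (Nat.coprime_two_right.1
      (CfsgLib.Core.coprime_card_pPrimeCore 2 (X1 ⧸ Z))) (even_iff_two_dvd.2 h)
  have hWn : X1 ≤ normalizer (Wc : Set G) := by
    intro g hg
    refine CfsgLib.Transfer.map_conj_eq_self_iff.1 (eq_of_le_of_card_ge ?_ ?_)
    · rintro _ ⟨_, ⟨y, hy, rfl⟩, rfl⟩
      exact ⟨⟨g, hg⟩ * y * ⟨g, hg⟩⁻¹,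
        (inferInstance : ((oddCore (X1 ⧸ Z)).comap p).Normal).conj_mem y hy _, rfl⟩
    · rw [CfsgLib.Transfer.card_map_conj]
  have hWcX : core Wc ≤ core X := by
    have h1 : core Wc ≤ core X1 := le_core ((AltEightThree.core_le Wc).trans (map_subtype_le _))
      (hWn.trans (normalizer_le_normalizer_core Wc)) (odd_core _)
    exact h1.trans (le_core ((AltEightThree.core_le X1).trans hX1le)
      (hX1n.trans (normalizer_le_normalizer_core X1)) (odd_core _))
  have hWX : core (centralizer (M.W : Set G)) ≤ X :=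
    (AltEightThree.core_le _).trans M.le_centralizer_W
  refine Cov.of_two hWX (odd_core _) (fun y hy => normalizer_le_normalizer_core _
    (CfsgLib.Transfer.normalizer_le_normalizer_centralizer _
      (M.normalizer_W hy.2 (hπX y hy.2 hy.1)))) ?_
  have key : ∀ y ∈ X1, ∃ o ∈ core X, ∃ k ∈ core (centralizer (M.W : Set G)),
      ∃ n ∈ M.N, n ∈ X ∧ y = o * k * n := by
    intro y hy
    obtain ⟨o', ho', q, hq, e⟩ := hcov (p ⟨y, hy⟩)
    obtain ⟨n, rfl⟩ := QuotientGroup.mk'_surjective Z q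
    change p n ∈ _ at hq
    change p ⟨y, hy⟩ = o' * p n at e
    have hT : ∀ t ∈ M.T0, (n : G) * t * (n : G)⁻¹ ∈ M.T0 := fun t ht =>
      hlift (a := n * ⟨t, hT0X1 ht⟩ * n⁻¹) (by
        rw [map_mul, map_mul, map_inv]
        exact (mem_normalizer_iff.1 hq _).1 (by rw [hP]; exact mem_map_of_mem p ht))
    obtain ⟨k, hk, m, hm, hmX, -, he⟩ := M.exists_factor (hX1le n.2) hT
    have hyn : y * (n : G)⁻¹ ∈ Wc := ⟨⟨y, hy⟩ * n⁻¹, by
      show p (⟨y, hy⟩ * n⁻¹) ∈ oddCore (X1 ⧸ Z)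
      rw [map_mul, map_inv, e, mul_inv_cancel_right]; exact ho', rfl⟩
    obtain ⟨o, ho, z, hz, e2⟩ := exists_core_mul_sylow hZWc
      (M.S.2.to_le (hZT0.trans M.T0_le)) hZi (fun w hw _ z hz => hZc w (map_subtype_le _ hw) z hz)
      _ hyn
    have hzX : z ∈ X := hSX (M.T0_le (hZT0 hz))
    have hkz : z * k = k * z := by
      obtain ⟨j, rfl⟩ := hz
      exact ((show Commute k (M.x 4) from
        mem_centralizer_singleton_iff.1 (hWX hk)).zpow_right j).symm
    refine ⟨o, hWcX ho, k, hk, z * m, mul_mem (M.S_le (M.T0_le (hZT0 hz))) hm,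
      mul_mem hzX hmX, ?_⟩
    rw [mul_inv_eq_iff_eq_mul] at e2
    rw [e2, he, show o * z * (k * m) = o * (z * k) * m by group, hkz]
    group
  intro y hy
  rcases hX1s y hy with h | h
  · exact key y h
  · obtain ⟨o, ho, k, hk, n, hn, hnX, e⟩ := key _ h
    refine ⟨o, ho, k, hk, n * M.x 0, mul_mem hn (M.A_le_N (M.x_mem 0)), mul_mem hnX hx0X, ?_⟩
    rw [← mul_assoc, ← e, mul_assoc, M.sq _ (M.x_mem 0), mul_one]

end Model

end CfsgLib.Recog.AltEightThree
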