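import Cfsg.Agent.Lib.Recog.AltEightThreeClasses.Basic
import Cfsg.Agent.S0215
import Mathlib.GroupTheory.Transfer

/-!
Owner: helper29. Transfer and `Z*` tools relative to subgroups.
-/

set_option autoImplicit false

namespace CfsgLib.Recog.AltEightThree

open Subgroup Cfsg
open scoped IsMulCommutative

universe u

variable {G : Type u} [Group G] [Finite G]

/-- An element of odd order of `K * f`, `f` an involution normalising `K`, lies in `K`. -/
theorem mem_of_odd {K : Subgroup G} {x o f : G} (ho : o ∈ K) (hf : f * f = 1)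
    (hn : f ∈ normalizer (K : Set G)) (e : x = o * f) (hx : Odd (orderOf x)) : x ∈ K := by
  have h2 : x ^ 2 ∈ K := by
    rw [pow_two, e, show o * f * (o * f) = o * (f * o * f⁻¹) * (f * f) by group, hf, mul_one]
    exact mul_mem ho ((mem_normalizer_iff.1 hn _).1 ho)
  obtain ⟨k, hk⟩ := hx
  have h3 : (x ^ 2) ^ (k + 1) = x := by
    rw [← pow_mul, show 2 * (k + 1) = orderOf x + 1 by omega, pow_add, pow_orderOf_eq_one, one_mul,
      pow_one]
  exact h3 ▸ pow_mem h2 _

/-- An odd subgroup normalised by the part inside `N` lies in the core. -/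
theorem Cov.core_le {N X K : Subgroup G} (h : Cov N X) (hK : K ≤ X) (hodd : Odd (Nat.card K))
    (hNK : X ⊓ N ≤ normalizer (K : Set G)) : K ≤ core X := by
  set D := K ⊔ core X with hD
  have hDX : D ≤ X := sup_le hK (AltEightThree.core_le X)
  have hDn : X ≤ normalizer (D : Set G) := by
    have hD1 : D ≤ normalizer (D : Set G) := le_normalizer
    intro x hx
    obtain ⟨o, ho, n, hn, hnX, rfl⟩ := h x hx
    refine mul_mem (hD1 (mem_sup_right ho)) ?_
    refine CfsgLib.Transfer.map_conj_eq_self_iff.1 ?_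
    rw [hD, Subgroup.map_sup, CfsgLib.Transfer.map_conj_eq_self_iff.2 (hNK ⟨hnX, hn⟩),
      CfsgLib.Transfer.map_conj_eq_self_iff.2 (le_normalizer_core X hnX)]
  have hDodd : Odd (Nat.card D) := Nat.coprime_two_right.1
    (CfsgLib.Core.coprime_card_sup (hK.trans (le_normalizer_core X))
      (Nat.coprime_two_right.2 hodd) (Nat.coprime_two_right.2 (odd_core X)))
  exact (le_sup_left.trans (le_core hDX hDn hDodd))

/-- Conjugation maps the core of a normalised subgroup to itself. -/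
theorem normalizer_le_normalizer_core (X : Subgroup G) :
    normalizer (X : Set G) ≤ normalizer (core X : Set G) := by
  intro g hg
  refine CfsgLib.Transfer.map_conj_eq_self_iff.1 (eq_of_le_of_card_ge ?_ ?_)
  · have := core_map_conj g X
    rwa [CfsgLib.Transfer.map_conj_eq_self_iff.2 hg] at this
  · rw [CfsgLib.Transfer.card_map_conj]

/-- Burnside's transfer theorem, relative to a subgroup. -/
theorem exists_core_mul_sylow {X T : Subgroup G} (hTX : T ≤ X) (hT : IsPGroup 2 T)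
    (hi : ¬ 2 ∣ T.relIndex X)
    (h : ∀ n ∈ X, n ∈ normalizer (T : Set G) → ∀ t ∈ T, n * t = t * n) :
    ∀ x ∈ X, ∃ o ∈ core X, ∃ t ∈ T, x = o * t := by
  have : Fact (Nat.Prime 2) := ⟨Nat.prime_two⟩
  let P : Sylow 2 X := (hT.comap_subtype (K := X)).toSylow hi
  have hP : normalizer ((P : Subgroup X) : Set X) ≤ centralizer ((P : Subgroup X) : Set X) := by
    intro n hn
    refine mem_centralizer_iff.2 fun t ht => Subtype.ext ?_
    refine (h n n.2 (mem_normalizer_iff.2 fun y => ⟨fun hy => ?_, fun hy => ?_⟩) t ht).symm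
    · exact (mem_normalizer_iff.1 hn ⟨y, hTX hy⟩).1 hy
    · have hyX : y ∈ X := by
        have := X.mul_mem (X.mul_mem (X.inv_mem n.2) (hTX hy)) n.2
        rwa [show ((n : G)⁻¹ * (n * y * (n : G)⁻¹)) * n = y by group] at this
      exact (mem_normalizer_iff.1 hn ⟨y, hyX⟩).2 hy
  have hc := MonoidHom.ker_transferSylow_isComplement' P hP
  intro x hx
  obtain ⟨⟨⟨k, hk⟩, ⟨t, ht⟩⟩, e⟩ := hc.2 ⟨x, hx⟩
  refine ⟨k, ?_, t, ht, (congrArg Subtype.val e).symm⟩
  refine ⟨k, CfsgLib.Core.le_pPrimeCore ?_ hk, rfl⟩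
  rw [← hc.index_eq_card]
  exact ((Nat.prime_two.coprime_iff_not_dvd).2 P.not_dvd_index).symm

/-- Thompson transfer, remembering what lies in the subgroup of index two. -/
theorem transfer_two (P : Sylow 2 G) (Q : Subgroup G) (hQi : Q.relIndex (P : Subgroup G) = 2)
    {u : G} (hu2 : u * u = 1) (hconj : ∀ g : G, g * u * g⁻¹ ∈ (P : Subgroup G) → g * u * g⁻¹ ∉ Q) :
    ∃ M : Subgroup G, M.Normal ∧ M.index = 2 ∧ u ∉ M ∧
      ∀ a : G, a * a = 1 → (∀ g : G, g * a * g⁻¹ ∈ (P : Subgroup G) → g * a * g⁻¹ ∈ Q) → a ∈ M := by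
  classical
  have : Fact (Nat.Prime 2) := ⟨Nat.prime_two⟩
  have : (Q.subgroupOf (P : Subgroup G)).Normal := Subgroup.normal_of_index_eq_two hQi
  have hcard : Nat.card ((P : Subgroup G) ⧸ Q.subgroupOf (P : Subgroup G)) = 2 := by
    rw [← index_eq_card]; exact hQi
  let _ : CommGroup ((P : Subgroup G) ⧸ Q.subgroupOf (P : Subgroup G)) :=
    haveI := isCyclic_of_prime_card hcard
    IsCyclic.commGroup
  set ϕ := QuotientGroup.mk' (Q.subgroupOf (P : Subgroup G))
  obtain ⟨c, hc, hcu⟩ : ∃ c : (P : Subgroup G) ⧸ Q.subgroupOf (P : Subgroup G), c ≠ 1 ∧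
      ∀ d, d ≠ 1 → d = c := by
    obtain ⟨a, b, hab, huniv⟩ := Nat.card_eq_two_iff.mp hcard
    have hall : ∀ d, d = a ∨ d = b := fun d => by
      have hd : d ∈ ({a, b} : Set _) := huniv ▸ Set.mem_univ d
      simpa using hd
    rcases hall 1 with h | h
    · exact ⟨b, fun h' => hab (h.symm.trans h'.symm),
        fun d hd => (hall d).resolve_left fun hda => hd (hda.trans h.symm)⟩
    · exact ⟨a, fun h' => hab (h'.trans h),
        fun d hd => (hall d).resolve_right fun hdb => hd (hdb.trans h.symm)⟩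
  have hc2 : c ^ 2 = 1 := by
    have h := pow_card_eq_one' (x := c)
    rwa [hcard] at h
  have : Fintype (Quotient (MulAction.orbitRel (zpowers u) (G ⧸ (P : Subgroup G)))) :=
    Fintype.ofFinite _
  have hper : ∀ a : G, a * a = 1 → ∀ x : G ⧸ (P : Subgroup G),
      Function.minimalPeriod (a • ·) x ∣ 2 := by
    intro a ha x
    refine Function.IsPeriodicPt.minimalPeriod_dvd ?_
    show a • a • x = x
    rw [smul_smul, ha, one_smul]
  have key : MonoidHom.transfer ϕ u = c ^ (P : Subgroup G).index := by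
    rw [MonoidHom.transfer_eq_prod_quotient_orbitRel_zpowers_quot,
      index_eq_sum_minimalPeriod (P : Subgroup G) u, ← Finset.prod_pow_eq_pow_sum]
    refine Finset.prod_congr rfl fun q _ => ?_
    rcases (Nat.dvd_prime Nat.prime_two).mp (hper u hu2 q.out) with h | h
    · conv_rhs => rw [h, pow_one]
      have hval : ∀ (x : G) (_ : x ∈ (P : Subgroup G)), x = q.out.out⁻¹ * u * q.out.out →
          x ∉ Q := by
        intro x hx e
        have h' := hconj q.out.out⁻¹
        rw [inv_inv, ← e] at h'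
        exact h' hx
      refine hcu _ fun h1 => ?_
      have h2 := mem_subgroupOf.mp ((QuotientGroup.eq_one_iff _).mp h1)
      refine hval _ (Subtype.prop _) ?_ h2
      simp [h]
    · conv_rhs => rw [h, hc2]
      refine (QuotientGroup.eq_one_iff _).mpr (mem_subgroupOf.mpr ?_)
      simp [h, pow_two, hu2]
  have hodd : (P : Subgroup G).index % 2 = 1 := by
    have := P.not_dvd_index
    omega
  have hTu : MonoidHom.transfer ϕ u ≠ 1 := by
    rw [key, ← Nat.div_add_mod (P : Subgroup G).index 2, hodd, pow_add, pow_mul, hc2, one_pow,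
      one_mul, pow_one]
    exact hc
  refine ⟨(MonoidHom.transfer ϕ).ker, inferInstance, ?_, hTu, fun a ha hQ => ?_⟩
  · rw [index_ker]
    rcases (Nat.dvd_prime Nat.prime_two).mp
      (hcard ▸ card_subgroup_dvd_card (MonoidHom.transfer ϕ).range) with h | h
    · exfalso
      have h' := card_eq_one.mp h
      rw [MonoidHom.range_eq_bot_iff] at h'
      exact hTu (by rw [h']; rfl)
    · exact h
  · have : Fintype (Quotient (MulAction.orbitRel (zpowers a) (G ⧸ (P : Subgroup G)))) :=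
      Fintype.ofFinite _
    rw [MonoidHom.mem_ker, MonoidHom.transfer_eq_prod_quotient_orbitRel_zpowers_quot]
    refine Finset.prod_eq_one fun q _ => (QuotientGroup.eq_one_iff _).mpr ?_
    rcases (Nat.dvd_prime Nat.prime_two).mp (hper a ha q.out) with h | h
    · have hval : ∀ (x : G) (_ : x ∈ (P : Subgroup G)), x = q.out.out⁻¹ * a * q.out.out →
          x ∈ Q := by
        intro x hx e
        have h' := hQ q.out.out⁻¹
        rw [inv_inv, ← e] at h'
        exact h' hx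
      refine mem_subgroupOf.mpr (hval _ (Subtype.prop _) ?_)
      simp [h]
    · refine mem_subgroupOf.mpr ?_
      simp [h, pow_two, ha]

/-- Thompson transfer, relative to a subgroup. -/
theorem transfer_in {X T Q : Subgroup G} (hTX : T ≤ X) (hT : IsPGroup 2 T)
    (hi : ¬ 2 ∣ T.relIndex X) (hQi : Q.relIndex T = 2) {u : G} (huT : u ∈ T) (hu2 : u * u = 1)
    (hconj : ∀ g ∈ X, g * u * g⁻¹ ∈ T → g * u * g⁻¹ ∉ Q) :
    ∃ M : Subgroup G, M ≤ X ∧ X ≤ normalizer (M : Set G) ∧ (∀ x ∈ X, x ∈ M ∨ x * u ∈ M) ∧ u ∉ M ∧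
      (∀ x ∈ X, x * x ∈ M) ∧ ¬ 2 ∣ (T ⊓ M).relIndex M ∧
      ∀ a ∈ X, a * a = 1 → (∀ g ∈ X, g * a * g⁻¹ ∈ T → g * a * g⁻¹ ∈ Q) → a ∈ M := by
  have : Fact (Nat.Prime 2) := ⟨Nat.prime_two⟩
  let P : Sylow 2 X := (hT.comap_subtype (K := X)).toSylow hi
  obtain ⟨M, hMn, hMi, huM, hmem⟩ := transfer_two P (Q.subgroupOf X)
    (by
      show (Q.subgroupOf X).relIndex (T.subgroupOf X) = 2
      rw [relIndex_subgroupOf hTX]; exact hQi)
    (u := ⟨u, hTX huT⟩) (Subtype.ext hu2) fun g hg => hconj g g.2 hg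
  have hsplit : ∀ x : X, x ∈ M ∨ x * ⟨u, hTX huT⟩ ∈ M := fun x => by
    by_cases hx : x ∈ M
    · exact Or.inl hx
    · exact Or.inr ((mul_mem_iff_of_index_two hMi).2 ⟨fun h => absurd h hx, fun h => absurd h huM⟩)
  refine ⟨M.map X.subtype, map_subtype_le M, ?_, fun x hx => ?_, ?_, fun x hx => ?_, ?_,
    fun a ha ha2 hQ => ⟨⟨a, ha⟩, hmem ⟨a, ha⟩ (Subtype.ext ha2) fun g hg => hQ g g.2 hg, rfl⟩⟩
  · intro g hg
    refine CfsgLib.Transfer.map_conj_eq_self_iff.1 (eq_of_le_of_card_ge ?_ ?_)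
    · rintro _ ⟨_, ⟨y, hy, rfl⟩, rfl⟩
      exact ⟨⟨g, hg⟩ * y * ⟨g, hg⟩⁻¹, hMn.conj_mem y hy _, rfl⟩
    · rw [CfsgLib.Transfer.card_map_conj]
  · rcases hsplit ⟨x, hx⟩ with h | h
    · exact Or.inl ⟨_, h, rfl⟩
    · exact Or.inr ⟨_, h, rfl⟩
  · rintro ⟨y, hy, e⟩
    exact huM ((Subtype.ext e : y = (⟨u, hTX huT⟩ : X)) ▸ hy)
  · exact ⟨_, M.mul_self_mem_of_index_two hMi ⟨x, hx⟩, rfl⟩
  · set M' := M.map X.subtype
    have h1 : M'.relIndex X = 2 := by
      rw [relIndex, ← comap_subtype, comap_map_eq_self_of_injective X.subtype_injective]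
      exact hMi
    have h2 : (T ⊓ M').relIndex T = 2 := by
      refine relIndex_eq_two_iff.2 ⟨u, huT, fun b hb => ?_⟩
      rcases hsplit ⟨b, hTX hb⟩ with h | h
      · refine Or.inr ⟨⟨hb, ⟨_, h, rfl⟩⟩, fun h' => huM ?_⟩
        obtain ⟨_, ⟨y, hy, e⟩⟩ := h'
        have := M.mul_mem (M.inv_mem h) hy
        rwa [show (⟨b, hTX hb⟩ : X)⁻¹ * y = ⟨u, hTX huT⟩ from Subtype.ext (by
          show b⁻¹ * (y : G) = u
          rw [show (y : G) = b * u from e]; group)] at this
      · refine Or.inl ⟨⟨mul_mem hb huT, ⟨_, h, rfl⟩⟩, fun h' => huM ?_⟩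
        obtain ⟨_, ⟨y, hy, e⟩⟩ := h'
        have := M.mul_mem (M.inv_mem hy) h
        rwa [show y⁻¹ * (⟨b, hTX hb⟩ * ⟨u, hTX huT⟩) = (⟨u, hTX huT⟩ : X) from Subtype.ext (by
          show (y : G)⁻¹ * (b * u) = u
          rw [show (y : G) = b from e]; group)] at this
    have e1 := relIndex_mul_relIndex (T ⊓ M') T X inf_le_left hTX
    have e2 := relIndex_mul_relIndex (T ⊓ M') M' X inf_le_right (map_subtype_le M)
    rw [h2] at e1
    rw [h1, ← e1, mul_comm] at e2
    rwa [show (T ⊓ M').relIndex M' = T.relIndex X by omega]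

/-- The `Z*`-theorem, relative to a subgroup. -/
theorem zstar_in {X T : Subgroup G} (hTX : T ≤ X) (hT : IsPGroup 2 T) (hi : ¬ 2 ∣ T.relIndex X)
    {u : G} (huT : u ∈ T) (hu : orderOf u = 2)
    (hiso : ∀ g ∈ X, g * u * g⁻¹ ∈ T → g * u * g⁻¹ = u) :
    ∀ x ∈ X, ∃ o ∈ core X, ∃ c ∈ X, c * u = u * c ∧ x = o * c := by
  have : Fact (Nat.Prime 2) := ⟨Nat.prime_two⟩
  let P : Sylow 2 X := (hT.comap_subtype (K := X)).toSylow hi
  let v : X := ⟨u, hTX huT⟩
  have hv : orderOf v = 2 := by rw [Subgroup.orderOf_mk]; exact hu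
  obtain ⟨L, hLn, hLodd, hL⟩ := Cfsg.Agent.S0215.result P v hv huT
    fun g hg => Subtype.ext (hiso g g.2 hg)
  intro x hx
  let g : X := ⟨x, hx⟩
  have hs : orderOf (g * v * g⁻¹) = 2 := by rw [CfsgLib.Signalizer.orderOf_conj, hv]
  have hvs : v * (g * v * g⁻¹) ∈ L := by
    have := hL g
    rwa [CfsgLib.Signalizer.involution_inv hv,
      show v * g * v * g⁻¹ = v * (g * v * g⁻¹) by group] at this
  obtain ⟨d, hd, hdv⟩ := CfsgLib.Signalizer.exists_conj_of_odd hv hs
    (hLodd.of_dvd_nat (orderOf_dvd_natCard _ hvs))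
  obtain ⟨k, hk⟩ := (CfsgLib.Signalizer.mem_closure_pair_iff hv hs).1 hd
  have hwL : (v * (g * v * g⁻¹)) ^ k ∈ L := zpow_mem hvs k
  generalize hw : (v * (g * v * g⁻¹)) ^ k = w at hk hwL
  have hwv : w * v * w⁻¹ = g * v * g⁻¹ := by
    rcases hk with rfl | rfl
    · exact hdv
    · rwa [show w * v * v * (w * v)⁻¹ = w * v * w⁻¹ by group] at hdv
  refine ⟨w, ⟨w, CfsgLib.Core.le_pPrimeCore (Nat.coprime_two_right.2 hLodd) hwL, rfl⟩,
    (w⁻¹ * g : X), Subtype.prop _, ?_, ?_⟩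
  · refine congrArg Subtype.val (?_ : w⁻¹ * g * v = v * (w⁻¹ * g))
    rw [show w⁻¹ * g * v = w⁻¹ * (g * v * g⁻¹) * g by group, ← hwv]
    group
  · show x = (w : G) * ((w : G)⁻¹ * x)
    group

end CfsgLib.Recog.AltEightThree
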