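import Cfsg.Agent.Lib.Recog.AltEightThreeClasses.Pair
import Cfsg.Agent.Lib.LocalEven.Generation
import Cfsg.Agent.S0217

/-!
Owner: helper29. In the configuration, `A` times the odd core is normal.
-/

set_option autoImplicit false

namespace CfsgLib.Recog.AltEightThree

open Subgroup Cfsg Equiv

universe u

variable {G : Type u} [Group G]

theorem exists_fixed_new : ∀ τ : Perm (Fin 5), InV τ → τ ≠ 1 →
    ∃ f : Vec, Eqv f (act τ f) ∧ ¬ InZ f := by decide +kernel

theorem w1_four : W1 (unit 4) := ⟨4, Or.inl rfl⟩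

namespace Model

variable (M : Model G) [Finite G]

theorem balance {a b : G} (ha : a ∈ M.A) (hb : b ∈ M.A) (hb1 : b ≠ 1) :
    core (centralizer ({a} : Set G)) ⊓ centralizer ({b} : Set G) ≤
      core (centralizer ({b} : Set G)) := by
  rintro x ⟨hxa, hxb⟩
  obtain ⟨o, ho, n, hn, hnX, rfl⟩ := M.cov hb hb1 x hxb
  set Ob := core (centralizer ({b} : Set G))
  have hAn : ∀ a' ∈ M.A, a' ∈ normalizer (Ob : Set G) := fun a' ha' =>
    le_normalizer_core _ (M.le_centralizer hb ha')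
  have hπ : M.π n = 1 := by
    refine M.π_eq_one hn fun a' ha' => ?_
    have hd : n * a' * n⁻¹ * a'⁻¹ ∈ M.A :=
      mul_mem ((mem_normalizer_iff.1 hn a').1 ha') (inv_mem ha')
    have hk : o * n * a' * (o * n)⁻¹ * a'⁻¹ ∈ core (centralizer ({a} : Set G)) := by
      rw [show o * n * a' * (o * n)⁻¹ * a'⁻¹ = o * n * (a' * (o * n)⁻¹ * a'⁻¹) by group]
      exact mul_mem hxa ((mem_normalizer_iff.1
        (le_normalizer_core _ (M.le_centralizer ha ha')) _).1 (inv_mem hxa))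
    have h1 : o * (n * a' * n⁻¹ * o⁻¹ * (n * a' * n⁻¹)⁻¹) ∈ Ob := mul_mem ho
      ((mem_normalizer_iff.1 (hAn _ ((mem_normalizer_iff.1 hn a').1 ha')) _).1 (inv_mem ho))
    have h2 := mem_of_odd h1 (M.sq _ hd) (hAn _ hd)
      (x := o * n * a' * (o * n)⁻¹ * a'⁻¹) (by group) (odd_orderOf_core hk)
    have h3 : n * a' * n⁻¹ * a'⁻¹ ∈ Ob := by
      have := mul_mem (inv_mem h1) h2
      rwa [show (o * (n * a' * n⁻¹ * o⁻¹ * (n * a' * n⁻¹)⁻¹))⁻¹ *
        (o * n * a' * (o * n)⁻¹ * a'⁻¹) = n * a' * n⁻¹ * a'⁻¹ by group] at this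
    exact mul_inv_eq_one.1 (eq_one_of_odd M.isPGroup hd (odd_orderOf_core h3))
  obtain ⟨o', ho', c, hc, rfl⟩ := M.π_ker n hn hπ
  have ho'b : o' ∈ centralizer ({b} : Set G) := by
    have := mul_mem hnX (inv_mem (M.le_centralizer hb hc))
    rwa [mul_inv_cancel_right] at this
  have hK : core M.N ⊓ centralizer ({b} : Set G) ≤ Ob :=
    Cov.core_le (M.cov hb hb1) inf_le_right ((odd_core M.N).of_dvd_nat (card_dvd_of_le inf_le_left))
      fun g hg => by
        have h1 := le_normalizer_core M.N hg.2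
        have h2 := le_normalizer hg.1
        exact mem_normalizer_iff.2 fun y =>
          and_congr (mem_normalizer_iff.1 h1 y) (mem_normalizer_iff.1 h2 y)
  exact mem_of_odd (mul_mem ho (hK ⟨ho', ho'b⟩)) (M.sq _ hc) (hAn _ hc) (mul_assoc _ _ _).symm
    (odd_orderOf_core hxa)

theorem not_mem_A_of_conj {u v g : G} (hu : u ∈ (M.S : Subgroup G)) (huA : u ∉ M.A)
    (e : g * v * g⁻¹ = u) : v ∉ M.A := fun h => huA (e ▸ M.closed v h g (e ▸ hu))

theorem le_of_contains {Y : Subgroup G} (hN : M.N ≤ Y)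
    (hC : ∀ a ∈ M.A, a ≠ 1 → centralizer ({a} : Set G) ≤ Y) : ∀ g : G, g ∈ Y := by
  have : Fact (Nat.Prime 2) := ⟨Nat.prime_two⟩
  have hx4 : centralizer ({M.x 4} : Set G) ≤ Y := hC _ (M.x_mem 4) (M.x_ne_one 4)
  have houter : ∀ u ∈ (M.S : Subgroup G), u ∉ M.A → u * u = 1 →
      centralizer ({u} : Set G) ≤ Y := by
    intro u hu huA hu2
    set X := centralizer ({u} : Set G) with hX
    have hx4u : M.x 4 * u = u * M.x 4 := (M.S_x4 hu).symm
    obtain ⟨T, hRT, hTX, hT, hTi⟩ := CfsgLib.Transfer.exists_sylow_of_le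
      (inf_le_right : (M.S : Subgroup G) ⊓ X ≤ X) (M.S.2.to_le inf_le_left)
    have hx4T : M.x 4 ∈ T :=
      hRT ⟨M.hAS (M.x_mem 4), mem_centralizer_singleton_iff.2 hx4u⟩
    have huT : u ∈ T := hRT ⟨hu, mem_centralizer_singleton_iff.2 rfl⟩
    obtain ⟨h, -, hh⟩ := CfsgLib.Transfer.exists_conj_le (N := ⊤) M.S.2
      (by rw [relIndex_top_right]; exact M.S.not_dvd_index) (le_top : T ≤ ⊤) hT
    have hfix : ∀ k : G, k * M.x 4 * k⁻¹ ∈ T → k * M.x 4 * k⁻¹ * u = u * (k * M.x 4 * k⁻¹) →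
        h⁻¹ * (k * M.x 4 * k⁻¹) * h = M.x 4 := by
      intro k hk hku
      have hy := hh _ hk
      rw [show h⁻¹ * (k * M.x 4 * k⁻¹) * h = (h⁻¹ * k) * M.x 4 * (h⁻¹ * k)⁻¹ by group] at hy ⊢
      have hyA := M.closed _ (M.x_mem 4) _ hy
      obtain ⟨f, hf1, hf⟩ := M.conj_w1 (M.x_mem 4) hyA rfl w1_four
      have hvS := hh u huT
      have hvA : h⁻¹ * u * h ∉ M.A := M.not_mem_A_of_conj hu huA (g := h) (by group)
      have hfx : Eqv f (act (M.π (h⁻¹ * u * h)) f) := (M.val_eq _ _).1 (by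
        rw [← M.π_conj _ (M.S_le hvS), hf,
          show h⁻¹ * u * h * (h⁻¹ * k * M.x 4 * (h⁻¹ * k)⁻¹) * (h⁻¹ * u * h)⁻¹ =
            h⁻¹ * (u * (k * M.x 4 * k⁻¹) * u⁻¹) * h by group, ← hku, mul_inv_cancel_right]
        group)
      have := fixed_weight_one _ (M.π_S _ hvS) (M.π_ne_one hvS hvA) f hf1 hfx
      rw [← hf, ← (M.val_eq _ _).2 this]
      rfl
    have hiso : ∀ g ∈ X, g * M.x 4 * g⁻¹ ∈ T → g * M.x 4 * g⁻¹ = M.x 4 := by
      intro g hg hgT
      have h1 := hfix g hgT (mem_centralizer_singleton_iff.1 (hTX hgT))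
      have h2 := hfix 1 (by simpa using hx4T) (by simpa using hx4u)
      rw [show h⁻¹ * (1 * M.x 4 * 1⁻¹) * h = h⁻¹ * M.x 4 * h by group] at h2
      exact mul_left_cancel (mul_right_cancel (h1.trans h2.symm))
    -- the core is generated by centralisers in a four group
    let A' : Subgroup G := M.A ⊓ X
    have : IsMulCommutative A' := ⟨⟨fun a b => Subtype.ext (M.comm a.2.1 b.2.1)⟩⟩
    have hA'4 : 2 ^ 2 ≤ Nat.card A' := by
      obtain ⟨f, hf, hfz⟩ := exists_fixed_new _ (M.π_S u hu) (M.π_ne_one hu huA)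
      have hvX : M.val f ∈ X := mem_centralizer_singleton_iff.2 (mul_inv_eq_iff_eq_mul.1 (by
        rw [M.π_conj u (M.S_le hu)]; exact ((M.val_eq _ _).2 hf).symm)).symm
      have hx4' : M.x 4 ∈ A' := ⟨M.x_mem 4, mem_centralizer_singleton_iff.2 hx4u⟩
      have hne : ¬ (M.val f = 1 ∨ M.val f = M.x 4) := fun h' => hfz (M.val_InZ.1 h')
      obtain ⟨k, hk, e⟩ := (Nat.dvd_prime_pow Nat.prime_two).1
        (show Nat.card A' ∣ 2 ^ 4 from (card_dvd_of_le inf_le_left).trans (by rw [M.card_A]; norm_num))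
      have hlt : 2 < Nat.card A' := by
        let φ : Fin 3 → A' := ![1, ⟨M.x 4, hx4'⟩, ⟨M.val f, M.val_mem f, hvX⟩]
        have hinj : Function.Injective φ := by
          intro i j hij
          have := congrArg Subtype.val hij
          fin_cases i <;> fin_cases j <;> simp only [φ] at this ⊢
          all_goals first
            | rfl
            | exact absurd this (M.x_ne_one 4)
            | exact absurd this.symm (M.x_ne_one 4)
            | exact absurd (Or.inl this) hne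
            | exact absurd (Or.inl this.symm) hne
            | exact absurd (Or.inr this) hne
            | exact absurd (Or.inr this.symm) hne
        have := Nat.card_le_card_of_injective φ hinj
        rw [Nat.card_fin] at this
        omega
      rw [e] at hlt ⊢
      refine Nat.pow_le_pow_right (by norm_num) ?_
      by_contra hk'
      interval_cases k <;> omega
    have hcoreY : core X ≤ Y := CfsgLib.LocalEven.le_of_centralizers_le (p := 2) (A := A')
      (fun a ha => by rw [pow_two]; exact M.sq a ha.1) hA'4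
      (inf_le_right.trans (le_normalizer_core X))
      (fun h' => Nat.not_even_iff_odd.2 (odd_core X) (even_iff_two_dvd.2 h'))
      (fun a ha ha1 => inf_le_right.trans (hC a ha.1 ha1))
    intro g hg
    obtain ⟨o, ho, c, -, hc, rfl⟩ :=
      zstar_in hTX hT hTi hx4T (M.orderOf_x 4) hiso g hg
    exact mul_mem (hcoreY ho) (hx4 (mem_centralizer_singleton_iff.2 hc))
  have hSY : (M.S : Subgroup G) ≤ Y := M.S_le.trans hN
  have hSi : ¬ 2 ∣ (M.S : Subgroup G).relIndex Y := fun h =>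
    M.S.not_dvd_index (h.trans (relIndex_dvd_index_of_le hSY))
  have hsylow : ∀ {y : G}, y ∈ Y → orderOf y = 2 → ∃ m ∈ Y, m⁻¹ * y * m ∈ (M.S : Subgroup G) := by
    intro y hy ho
    obtain ⟨m, hm, hmy⟩ := CfsgLib.Transfer.exists_conj_le M.S.2 hSi (zpowers_le.2 hy)
      (IsPGroup.of_card_dvd_pow (n := 1) (by rw [Nat.card_zpowers, ho, pow_one]))
    exact ⟨m, hm, hmy y (mem_zpowers y)⟩
  obtain ⟨hτ, hτ1, -⟩ := tau_facts
  obtain ⟨u, hu, -, hu2, huA⟩ := M.exists_involution hτ hτ1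
  have hou : orderOf u = 2 :=
    CfsgLib.Signalizer.orderOf_eq_two_of (fun h => huA (h ▸ one_mem _)) hu2
  intro g
  have hs : orderOf (g * u * g⁻¹) = 2 := by rw [CfsgLib.Signalizer.orderOf_conj, hou]
  obtain ⟨z, hz, hzt, hzs⟩ := CfsgLib.Signalizer.exists_central_involution_of_not_conj
    (M.orderOf_x 4) hs (by
      intro h
      obtain ⟨c, hc⟩ := isConj_iff.1 (h.trans (isConj_iff.2 ⟨g, rfl⟩).symm)
      exact M.not_mem_A_of_conj hu huA hc (M.x_mem 4))
  have hzY : z ∈ Y := hx4 (mem_centralizer_singleton_iff.2 hzt)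
  obtain ⟨m, hm, hmS⟩ := hsylow hzY hz
  have hz1 : m⁻¹ * z * m * (m⁻¹ * z * m) = 1 := by
    rw [show m⁻¹ * z * m * (m⁻¹ * z * m) = m⁻¹ * (z * z) * m by group,
      CfsgLib.Signalizer.involution_sq hz]
    group
  have hzne : m⁻¹ * z * m ≠ 1 := fun h' => CfsgLib.Signalizer.involution_ne_one hz (by
    rw [show z = m * (m⁻¹ * z * m) * m⁻¹ by group, h']; group)
  have hCz : centralizer ({m⁻¹ * z * m} : Set G) ≤ Y := by
    by_cases hA : m⁻¹ * z * m ∈ M.A
    · exact hC _ hA hzne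
    · exact houter _ hmS hA hz1
  have hsY : g * u * g⁻¹ ∈ Y := by
    have h1 : m⁻¹ * (g * u * g⁻¹) * m ∈ Y := hCz (mem_centralizer_singleton_iff.2 (by
      rw [show m⁻¹ * (g * u * g⁻¹) * m * (m⁻¹ * z * m) = m⁻¹ * (g * u * g⁻¹ * z) * m by group,
        ← hzs]
      group))
    have h2 := mul_mem (mul_mem hm h1) (inv_mem hm)
    rwa [show m * (m⁻¹ * (g * u * g⁻¹) * m) * m⁻¹ = g * u * g⁻¹ by group] at h2
  obtain ⟨c, hc, hcS⟩ := hsylow hsY hs
  rw [show c⁻¹ * (g * u * g⁻¹) * c = (c⁻¹ * g) * u * (c⁻¹ * g)⁻¹ by group] at hcS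
  have hsA : (c⁻¹ * g) * u * (c⁻¹ * g)⁻¹ ∉ M.A :=
    M.not_mem_A_of_conj hu huA (g := (c⁻¹ * g)⁻¹) (by group)
  obtain ⟨n, hn, hne⟩ := M.exists_conj_outer hu huA hu2 hcS hsA (by
    rw [show c⁻¹ * g * u * (c⁻¹ * g)⁻¹ * (c⁻¹ * g * u * (c⁻¹ * g)⁻¹) =
      c⁻¹ * g * (u * u) * (c⁻¹ * g)⁻¹ by group, hu2]
    group)
  have h1 : n⁻¹ * (c⁻¹ * g) ∈ Y := houter u hu huA hu2 (mem_centralizer_singleton_iff.2 (by
    rw [show n⁻¹ * (c⁻¹ * g) * u = n⁻¹ * (c⁻¹ * g * u * (c⁻¹ * g)⁻¹) * (c⁻¹ * g) by group, ← hne]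
    group))
  have h2 := mul_mem (mul_mem hc (hN hn)) h1
  rwa [show c * n * (n⁻¹ * (c⁻¹ * g)) = g by group] at h2

/-- **The conclusion**: `A` times the odd core is normal. -/
theorem normal_sup : (M.A ⊔ oddCore G).Normal := by
  have : Fact (Nat.Prime 2) := ⟨Nat.prime_two⟩
  let θ : G → Subgroup G := fun a => core (centralizer ({a} : Set G))
  obtain ⟨hΘ, -⟩ := Cfsg.Agent.S0217.result M.A (fun a ha b hb => M.comm ha hb)
    (fun a ha => by rw [pow_two]; exact M.sq a ha) (by rw [M.card_A]; norm_num) θ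
    (fun a _ _ => AltEightThree.core_le _)
    (fun a _ _ h => Nat.not_odd_iff_even.2 (even_iff_two_dvd.2 h) (odd_core _))
    (fun a ha _ b hb x hx =>
      (mem_normalizer_iff.1 (le_normalizer_core _ (M.le_centralizer ha hb)) x).1 hx)
    (fun a _ _ => CfsgLib.OddLocal.FTFinal.odd_order_solvable (odd_core _))
    (fun a ha _ b hb hb1 => M.balance ha hb hb1)
  set Θ : Subgroup G := ⨆ a : {a : G // a ∈ M.A ∧ a ≠ 1}, θ a with hΘdef
  have hΘn : M.N ≤ normalizer (Θ : Set G) := by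
    intro n hn
    refine CfsgLib.Transfer.map_conj_eq_self_iff.1 (eq_of_le_of_card_ge ?_ ?_)
    · rw [hΘdef, Subgroup.map_iSup]
      refine iSup_le fun a => ?_
      have hna : n * a.1 * n⁻¹ ∈ M.A := (mem_normalizer_iff.1 hn _).1 a.2.1
      have hne : n * a.1 * n⁻¹ ≠ 1 := fun h => a.2.2 (conj_eq_one_iff.1 h)
      refine le_trans ?_ (le_iSup (fun b : {a : G // a ∈ M.A ∧ a ≠ 1} => θ b) ⟨_, hna, hne⟩)
      refine (core_map_conj n _).trans (le_of_eq ?_)
      rw [map_centralizer_singleton]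
    · rw [CfsgLib.Transfer.card_map_conj]
  have htop : Θ ⊔ M.N = ⊤ := (eq_top_iff' _).2 (M.le_of_contains le_sup_right fun a ha ha1 x hx => by
    obtain ⟨o, ho, n, hn, -, rfl⟩ := M.cov ha ha1 x hx
    exact mul_mem (mem_sup_left (le_iSup (fun b : {a : G // a ∈ M.A ∧ a ≠ 1} => θ b) ⟨a, ha, ha1⟩ ho))
      (mem_sup_right hn))
  have hΘnormal : Θ.Normal := by
    refine normalizer_eq_top_iff.1 (top_unique ?_)
    rw [← htop]
    exact sup_le le_normalizer hΘn
  have hΘle : Θ ≤ oddCore G := CfsgLib.Core.le_pPrimeCore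
    (Nat.coprime_two_right.2 (Nat.not_even_iff_odd.1 fun h => hΘ h.two_dvd))
  refine normalizer_eq_top_iff.1 (top_unique ?_)
  rw [← htop]
  refine sup_le ((hΘle.trans le_sup_right).trans le_normalizer) fun n hn => ?_
  refine CfsgLib.Transfer.map_conj_eq_self_iff.1 ?_
  rw [Subgroup.map_sup, CfsgLib.Transfer.map_conj_eq_self_iff.2 hn,
    CfsgLib.Transfer.map_conj_eq_self_iff.2 (show n ∈ normalizer (oddCore G : Set G) by
      rw [normalizer_eq_top]; exact mem_top n)]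

end Model

end CfsgLib.Recog.AltEightThree
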